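import Mathlib.AlgebraicGeometry.Fiber
import Mathlib.AlgebraicGeometry.Stalk

/-!
# The local rings of a fibre
-/

universe u

set_option linter.style.haveILetI false
set_option backward.isDefEq.respectTransparency false

open CategoryTheory CategoryTheory.Limits AlgebraicGeometry IsLocalRing

namespace Groth.Agent.EGA43Top

/-- The local ring of the fibre is the quotient of the local ring by the maximal ideal of the base. -/
theorem exists_ringEquiv_fiber_stalk {X Y : Scheme.{u}} (f : X ⟶ Y) (y : Y) (z : f.fiber y) :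
    ∃ e : (X.presheaf.stalk (f.fiberι y z) ⧸
        (maximalIdeal (Y.presheaf.stalk (f (f.fiberι y z)))).map (f.stalkMap (f.fiberι y z)).hom) ≃+*
        (f.fiber y).presheaf.stalk z,
      ∀ b, e (Ideal.Quotient.mk _ b) = (f.fiberι y).stalkMap z b := by
  obtain ⟨x, hx⟩ : ∃ x, f.fiberι y z = x := ⟨_, rfl⟩
  set β : X.presheaf.stalk (f.fiberι y z) ⟶ (f.fiber y).presheaf.stalk z := (f.fiberι y).stalkMap z
  set A := Y.presheaf.stalk (f (f.fiberι y z))
  set α : A ⟶ X.presheaf.stalk (f.fiberι y z) := f.stalkMap (f.fiberι y z)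
  set I := (maximalIdeal A).map α.hom
  have hy : f (f.fiberι y z) = y := (Scheme.Hom.range_fiberι f y).le ⟨z, rfl⟩
  let c := Y.residueFieldCongr hy.symm
  have hc : Spec.map c.hom ≫ Y.fromSpecResidueField y = Y.fromSpecResidueField (f (f.fiberι y z)) :=
    Scheme.residueFieldCongr_fromSpecResidueField hy.symm
  have hc' : Spec.map c.inv ≫ Y.fromSpecResidueField (f (f.fiberι y z)) = Y.fromSpecResidueField y := by
    rw [← hc, ← Spec.map_comp_assoc, Iso.hom_inv_id, Spec.map_id, Category.id_comp]
  -- the maximal ideal of the base dies in the fibre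
  obtain ⟨ρ, hρ⟩ : ∃ ρ : Y.residueField (f (f.fiberι y z)) ⟶ (f.fiber y).presheaf.stalk z,
      α ≫ β = Y.residue _ ≫ ρ := by
    refine ⟨c.inv ≫ Spec.preimage ((f.fiber y).fromSpecStalk z ≫ f.fiberToSpecResidueField y), ?_⟩
    apply Spec.map_injective
    rw [← cancel_mono (Y.fromSpecStalk (f (f.fiberι y z))), Spec.map_comp, Spec.map_comp, Spec.map_comp,
      Spec.map_preimage, Category.assoc, Category.assoc, Category.assoc, Category.assoc,
      Scheme.SpecMap_stalkMap_fromSpecStalk, Scheme.SpecMap_stalkMap_fromSpecStalk_assoc,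
      ← Scheme.fromSpecResidueField, hc']
    congr 1
    exact pullback.condition
  have hIle : I ≤ RingHom.ker β.hom := by
    rw [Ideal.map_le_iff_le_comap]
    intro a ha
    show (α ≫ β).hom a = 0
    rw [hρ]
    show ρ.hom (IsLocalRing.residue A a) = 0
    rw [IsLocalRing.residue_eq_zero_iff _ |>.2 ha, map_zero]
  -- a section
  haveI : Nontrivial (X.presheaf.stalk (f.fiberι y z) ⧸ I) :=
    Ideal.Quotient.nontrivial_iff.2 (ne_of_lt (lt_of_le_of_lt hIle
      (lt_top_iff_ne_top.2 (RingHom.ker_ne_top _))))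
  haveI : IsLocalRing (X.presheaf.stalk (f.fiberι y z) ⧸ I) :=
    IsLocalRing.of_surjective' (Ideal.Quotient.mk I) Ideal.Quotient.mk_surjective
  let L := CommRingCat.of (X.presheaf.stalk (f.fiberι y z) ⧸ I)
  let q : X.presheaf.stalk (f.fiberι y z) ⟶ L := CommRingCat.ofHom (Ideal.Quotient.mk I)
  let ψ : Y.residueField (f (f.fiberι y z)) ⟶ L :=
    CommRingCat.ofHom (Ideal.Quotient.lift (maximalIdeal A) (q.hom.comp α.hom)
      (fun a ha => Ideal.Quotient.eq_zero_iff_mem.2 (Ideal.mem_map_of_mem _ ha)))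
  let m : Spec L ⟶ f.fiber y := pullback.lift (Spec.map q ≫ X.fromSpecStalk _)
    (Spec.map ψ ≫ Spec.map c.hom) (by
      rw [Category.assoc, Category.assoc, hc, ← Scheme.SpecMap_stalkMap_fromSpecStalk,
        show Y.fromSpecResidueField (f (f.fiberι y z)) = Spec.map (Y.residue _) ≫ Y.fromSpecStalk _ from rfl,
        ← Spec.map_comp_assoc, ← Spec.map_comp_assoc]
      rfl)
  have hmι : m ≫ f.fiberι y = Spec.map q ≫ X.fromSpecStalk _ := pullback.lift_fst _ _ _
  have hm : m (closedPoint L) = z := by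
    apply (f.fiberι y).isEmbedding.injective
    rw [← Scheme.Hom.comp_apply, hmι, Scheme.Hom.comp_apply]
    refine Eq.trans ?_ Scheme.fromSpecStalk_closedPoint
    congr 1
    haveI : IsLocalHom (Ideal.Quotient.mk I) :=
      IsLocalHom.of_surjective _ Ideal.Quotient.mk_surjective
    exact IsLocalRing.comap_closedPoint (Ideal.Quotient.mk I)
  let γ : (f.fiber y).presheaf.stalk z ⟶ L :=
    (f.fiber y).presheaf.stalkSpecializes (specializes_of_eq hm) ≫ Scheme.stalkClosedPointTo m
  have hγ : β ≫ γ = q := by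
    apply Spec.map_injective
    rw [← cancel_mono (X.fromSpecStalk (f.fiberι y z)), Spec.map_comp, Category.assoc,
      Scheme.SpecMap_stalkMap_fromSpecStalk, Spec.map_comp, Category.assoc,
      Scheme.SpecMap_stalkSpecializes_fromSpecStalk_assoc, Scheme.Spec_stalkClosedPointTo_fromSpecStalk_assoc,
      hmι]
  have hker : RingHom.ker β.hom = I := le_antisymm (fun b hb => Ideal.Quotient.eq_zero_iff_mem.1 (by
    show q.hom b = 0
    rw [← hγ]
    show γ.hom (β.hom b) = 0
    rw [show β.hom b = 0 from hb, map_zero])) hIle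
  refine ⟨(Ideal.quotEquivOfEq hker.symm).trans
    (RingHom.quotientKerEquivOfSurjective (f := β.hom) ((f.fiberι y).stalkMap_surjective z)), fun b => ?_⟩
  rfl

end Groth.Agent.EGA43Top
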