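import Groth.Agent.Lib.EGA43Top.OpenCriterion
import Mathlib.RingTheory.Spectrum.Prime.LTSeries
import Mathlib.RingTheory.Ideal.KrullsHeightTheorem
import Mathlib.Topology.KrullDimension
import Mathlib.AlgebraicGeometry.Noetherian
import Mathlib.AlgebraicGeometry.Fiber

/-!
# Dimension of local rings and lifting of generizations
-/

universe u

set_option linter.style.haveILetI false
set_option backward.isDefEq.respectTransparency false

open CategoryTheory CategoryTheory.Limits AlgebraicGeometry Topology IsLocalRing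

namespace Groth.Agent.EGA43Top

variable {A B : Type u} [CommRing A] [CommRing B] [IsLocalRing A] [IsLocalRing B]
  [IsNoetherianRing A] [IsNoetherianRing B] (φ : A →+* B) [IsLocalHom φ]

/-- Chains of primes lift when every prime is a contraction. -/
theorem exists_ltSeries_of_comap_surjective (h : Function.Surjective (PrimeSpectrum.comap φ)) :
    ∀ (n : ℕ) (p : LTSeries (PrimeSpectrum A)), p.length = n + 1 → p.last = closedPoint A →
      ∃ q : LTSeries (PrimeSpectrum B), q.length = n + 1 ∧
        p.head.asIdeal.map φ ≤ q.head.asIdeal ∧ PrimeSpectrum.comap φ q.head ≠ closedPoint A := by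
  intro n
  induction n with
  | zero =>
    intro p hn hl
    obtain ⟨Q, hQ⟩ := h p.head
    have hne : p.head ≠ closedPoint A := by
      rw [← hl]
      exact ne_of_lt (LTSeries.strictMono p (by simp [Fin.lt_def, hn]))
    have hlt : Q < closedPoint B := lt_of_le_of_ne
      (show Q.asIdeal ≤ maximalIdeal B from le_maximalIdeal Q.2.ne_top)
      (fun e => hne (by rw [← hQ, e, IsLocalRing.comap_closedPoint]))
    refine ⟨(RelSeries.singleton _ (closedPoint B)).cons Q hlt, by simp, ?_, ?_⟩
    · rw [RelSeries.head_cons, ← hQ]; exact Ideal.map_comap_le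
    · rw [RelSeries.head_cons, hQ]; exact hne
  | succ n ih =>
    intro p hn hl
    classical
    let J := p.head.asIdeal.map φ
    have hfin : J.minimalPrimes.Finite := J.finite_minimalPrimes_of_isNoetherianRing B
    let F : Finset (Ideal A) := (hfin.toFinset.image (Ideal.comap φ)).filter (· ≠ maximalIdeal A)
    have hx : ¬ ((maximalIdeal A : Ideal A) : Set A) ⊆ ⋃ c ∈ (F : Set (Ideal A)), (c : Set A) := by
      intro hsub
      obtain ⟨c, hc, hmc⟩ := (Ideal.subset_union_prime (f := fun c => c) ⊥ ⊥ (fun c hc _ _ => by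
        obtain ⟨Q, hQ, rfl⟩ := Finset.mem_image.1 (Finset.mem_filter.1 hc).1
        exact Ideal.IsPrime.comap φ (hK := (hfin.mem_toFinset.1 hQ).1.1))).1 hsub
      obtain ⟨hc1, hc2⟩ := Finset.mem_filter.1 hc
      obtain ⟨Q, hQ, rfl⟩ := Finset.mem_image.1 hc1
      exact hc2 (le_antisymm (le_maximalIdeal (Ideal.IsPrime.comap φ (hK := (hfin.mem_toFinset.1 hQ).1.1)).ne_top) hmc)
    obtain ⟨x, hxm, hxF⟩ := Set.not_subset.1 hx
    obtain ⟨q, hxq, hlen, hhd, hla⟩ := PrimeSpectrum.exist_ltSeries_mem_one_of_mem_last p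
      (x := x) (by rw [hl]; exact hxm)
    have hq0 : q.length ≠ 0 := by omega
    obtain ⟨R, hR, hRle, hRne⟩ := ih (q.tail hq0) (by simp [RelSeries.tail_length]; omega)
      (by rw [RelSeries.last_tail, ← hla, hl])
    have hq1 : q 1 = (q.tail hq0).head := by
      rw [RelSeries.head_tail]
    have hxR : x ∈ (PrimeSpectrum.comap φ R.head).asIdeal :=
      hRle (Ideal.mem_map_of_mem φ (hq1 ▸ hxq))
    have hJR : J ≤ R.head.asIdeal := by
      refine le_trans (Ideal.map_mono ?_) hRle
      rw [hhd, ← hq1]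
      exact le_of_lt (LTSeries.strictMono q (show (0 : Fin (q.length + 1)) < 1 by
        rw [Fin.lt_def, Fin.val_one', Nat.one_mod_eq_one.2 (by omega)]; simp))
    obtain ⟨Q₀, hQ₀, hQ₀R⟩ := Ideal.exists_minimalPrimes_le hJR
    haveI := hQ₀.1.1
    have hlt : (⟨Q₀, hQ₀.1.1⟩ : PrimeSpectrum B) < R.head := by
      refine lt_of_le_of_ne hQ₀R (fun e => hxF (Set.mem_iUnion₂.2 ⟨_, Finset.mem_filter.2
        ⟨Finset.mem_image.2 ⟨Q₀, hfin.mem_toFinset.2 hQ₀, rfl⟩, fun hc => hRne ?_⟩, ?_⟩))
      · rw [← e]; exact PrimeSpectrum.ext hc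
      · show x ∈ (PrimeSpectrum.comap φ ⟨Q₀, hQ₀.1.1⟩).asIdeal
        rw [e]; exact hxR
    refine ⟨R.cons _ hlt, by simp [hR], ?_, ?_⟩
    · rw [RelSeries.head_cons]; exact hQ₀.1.2
    · rw [RelSeries.head_cons]
      intro hc
      refine hRne (le_antisymm ?_ (hc ▸ Ideal.comap_mono hQ₀R))
      show Ideal.comap φ R.head.asIdeal ≤ maximalIdeal A
      exact le_maximalIdeal (PrimeSpectrum.comap φ R.head).2.ne_top

/-- A local homomorphism of Noetherian local rings with surjective map of spectra does not lower the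
dimension. -/
theorem ringKrullDim_le_of_comap_surjective (h : Function.Surjective (PrimeSpectrum.comap φ)) :
    ringKrullDim A ≤ ringKrullDim B := by
  refine iSup_le fun p => ?_
  rcases hn : p.length with _ | n
  · exact ringKrullDim_nonneg_of_nontrivial
  · let p' : LTSeries (PrimeSpectrum A) := p.eraseLast.snoc (closedPoint A)
      (lt_of_lt_of_le (RelSeries.eraseLast_last_rel_last p (by omega))
        (show p.last.asIdeal ≤ maximalIdeal A from le_maximalIdeal p.last.2.ne_top))
    obtain ⟨q, hq, -⟩ := exists_ltSeries_of_comap_surjective φ h n p' (by simp [p', hn]) (by simp [p'])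
    calc ((n + 1 : ℕ) : WithBot ℕ∞) = (q.length : WithBot ℕ∞) := by rw [hq]
      _ ≤ ringKrullDim B := Order.LTSeries.length_le_krullDim q

variable {X Y : Scheme.{u}}

theorem stalkMap_comap_apply (f : X ⟶ Y) (x : X) (q : Spec (X.presheaf.stalk x)) :
    Y.fromSpecStalk (f x) (Spec.map (f.stalkMap x) q) = f (X.fromSpecStalk x q) := by
  rw [← Scheme.Hom.comp_apply, Scheme.SpecMap_stalkMap_fromSpecStalk, Scheme.Hom.comp_apply]

/-- Lifting of generizations bounds the dimension of the local ring of the image. -/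
theorem ringKrullDim_stalk_le_of_liftsAt [IsLocallyNoetherian X] [IsLocallyNoetherian Y] (f : X ⟶ Y)
    (x : X) (h : LiftsAt f x) :
    ringKrullDim (Y.presheaf.stalk (f x)) ≤ ringKrullDim (X.presheaf.stalk x) := by
  refine ringKrullDim_le_of_comap_surjective (f.stalkMap x).hom fun p => ?_
  have hp : Y.fromSpecStalk (f x) p ⤳ f x :=
    (Scheme.range_fromSpecStalk (X := Y) (x := f x)).le ⟨p, rfl⟩
  obtain ⟨x', hx', hfx'⟩ := h _ hp
  obtain ⟨q, rfl⟩ : x' ∈ Set.range (X.fromSpecStalk x) := by rw [Scheme.range_fromSpecStalk]; exact hx'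
  refine ⟨q, (Y.fromSpecStalk (f x)).isEmbedding.injective ?_⟩
  exact (stalkMap_comap_apply f x q).trans hfx'

/-- The closed fibre of a local ring map as a space. -/
theorem ringKrullDim_fiber_stalk (f : X ⟶ Y) (x : X) :
    ringKrullDim ((f.fiber (f x)).presheaf.stalk (f.asFiber x)) =
      ringKrullDim (X.presheaf.stalk x ⧸ (maximalIdeal (Y.presheaf.stalk (f x))).map (f.stalkMap x).hom) := by
  let B := X.presheaf.stalk x
  let I := (maximalIdeal (Y.presheaf.stalk (f x))).map (f.stalkMap x).hom
  let a : PrimeSpectrum (B ⧸ I) → X := X.fromSpecStalk x ∘ PrimeSpectrum.comap (Ideal.Quotient.mk I)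
  let b : Spec ((f.fiber (f x)).presheaf.stalk (f.asFiber x)) → X :=
    f.fiberι (f x) ∘ (f.fiber (f x)).fromSpecStalk (f.asFiber x)
  have ha : IsEmbedding a := (X.fromSpecStalk x).isEmbedding.comp
    (PrimeSpectrum.isClosedEmbedding_comap_of_surjective _ _ Ideal.Quotient.mk_surjective).isEmbedding
  have hb : IsEmbedding b :=
    (f.fiberι (f x)).isEmbedding.comp (Scheme.Hom.isEmbedding _)
  have hr : Set.range a = Set.range b := by
    have hbr : Set.range b = {y | y ⤳ x ∧ f y = f x} := by
      rw [Set.range_comp, Scheme.range_fromSpecStalk]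
      ext y
      constructor
      · rintro ⟨w, hw, rfl⟩
        exact ⟨by simpa using hw.map (f.fiberι (f x)).continuous,
          (Scheme.Hom.range_fiberι f (f x)).le ⟨w, rfl⟩⟩
      · rintro ⟨hy, hfy⟩
        obtain ⟨w, rfl⟩ : y ∈ Set.range (f.fiberι (f x)) := by rw [Scheme.Hom.range_fiberι]; exact hfy
        exact ⟨w, (f.fiberι (f x)).isEmbedding.isInducing.specializes_iff.1 (by simpa using hy), rfl⟩
    rw [hbr, Set.range_comp, range_comap_of_surjective _ _ Ideal.Quotient.mk_surjective, Ideal.mk_ker]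
    ext y
    constructor
    · rintro ⟨q, hq, rfl⟩
      refine ⟨(Scheme.range_fromSpecStalk (X := X) (x := x)).le ⟨q, rfl⟩, ?_⟩
      rw [← stalkMap_comap_apply, show Spec.map (f.stalkMap x) q = closedPoint _ from PrimeSpectrum.ext
        (le_antisymm (le_maximalIdeal (PrimeSpectrum.comap (f.stalkMap x).hom q).2.ne_top)
          (Ideal.map_le_iff_le_comap.1 hq)), Scheme.fromSpecStalk_closedPoint]
    · rintro ⟨hy, hfy⟩
      obtain ⟨q, rfl⟩ : y ∈ Set.range (X.fromSpecStalk x) := by rw [Scheme.range_fromSpecStalk]; exact hy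
      refine ⟨q, Ideal.map_le_iff_le_comap.2 (le_of_eq ?_), rfl⟩
      refine (congrArg PrimeSpectrum.asIdeal (show PrimeSpectrum.comap (f.stalkMap x).hom q =
        closedPoint (Y.presheaf.stalk (f x)) from ?_)).symm
      apply (Y.fromSpecStalk (f x)).isEmbedding.injective
      exact ((stalkMap_comap_apply f x q).trans hfy).trans Scheme.fromSpecStalk_closedPoint.symm
  rw [← PrimeSpectrum.topologicalKrullDim_eq_ringKrullDim, ← PrimeSpectrum.topologicalKrullDim_eq_ringKrullDim]
  exact (IsHomeomorph.topologicalKrullDim_eq _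
    ((ha.toHomeomorph.trans ((Homeomorph.setCongr hr).trans hb.toHomeomorph.symm)).isHomeomorph)).symm

/-- The dimension inequality for the local rings of a morphism. -/
theorem ringKrullDim_stalk_le_add [IsLocallyNoetherian X] [IsLocallyNoetherian Y] (f : X ⟶ Y) (x : X) :
    ringKrullDim (X.presheaf.stalk x) ≤
      ringKrullDim (Y.presheaf.stalk (f x)) + ringKrullDim ((f.fiber (f x)).presheaf.stalk (f.asFiber x)) := by
  rw [ringKrullDim_fiber_stalk]
  letI := (f.stalkMap x).hom.toAlgebra
  haveI : (maximalIdeal (X.presheaf.stalk x)).LiesOver (maximalIdeal (Y.presheaf.stalk (f x))) :=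
    ⟨(maximalIdeal_comap (f.stalkMap x).hom).symm⟩
  have h := Ideal.height_le_height_add_of_liesOver (maximalIdeal (Y.presheaf.stalk (f x)))
    (maximalIdeal (X.presheaf.stalk x))
  rw [← IsLocalRing.maximalIdeal_height_eq_ringKrullDim, ← IsLocalRing.maximalIdeal_height_eq_ringKrullDim]
  refine le_trans (WithBot.coe_le_coe.mpr h) ?_
  rw [WithBot.coe_add]
  refine add_le_add le_rfl (Ideal.height_le_ringKrullDim_of_ne_top ?_)
  intro htop
  have := congrArg (Ideal.comap (Ideal.Quotient.mk
    ((maximalIdeal (Y.presheaf.stalk (f x))).map (f.stalkMap x).hom))) htop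
  erw [Ideal.comap_map_of_surjective _ Ideal.Quotient.mk_surjective] at this
  rw [
    ← RingHom.ker_eq_comap_bot, Ideal.mk_ker,
    Ideal.comap_top, sup_eq_left.2 (Ideal.map_le_iff_le_comap.2 (maximalIdeal_comap (f.stalkMap x).hom).ge)] at this
  exact (maximalIdeal.isMaximal _).ne_top this

/-- The dimension formula, when generizations lift at the generic points of the fibre. -/
theorem ringKrullDim_stalk_eq_of_liftsAt [IsLocallyNoetherian X] [IsLocallyNoetherian Y] (f : X ⟶ Y) (x : X)
    (h : ∀ z, z ⤳ x → f z = f x → (∀ z', z' ⤳ z → f z' = f x → z' = z) → LiftsAt f z) :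
    ringKrullDim (X.presheaf.stalk x) =
      ringKrullDim (Y.presheaf.stalk (f x)) + ringKrullDim ((f.fiber (f x)).presheaf.stalk (f.asFiber x)) := by
  refine le_antisymm (ringKrullDim_stalk_le_add f x) ?_
  rw [ringKrullDim_fiber_stalk]
  set I := (maximalIdeal (Y.presheaf.stalk (f x))).map (f.stalkMap x).hom
  have hI : I ≤ maximalIdeal (X.presheaf.stalk x) :=
    Ideal.map_le_iff_le_comap.2 (maximalIdeal_comap (f.stalkMap x).hom).ge
  haveI : Nontrivial (X.presheaf.stalk x ⧸ I) :=
    Ideal.Quotient.nontrivial_iff.2 fun e => (maximalIdeal.isMaximal _).ne_top (top_le_iff.1 (e ▸ hI))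
  rw [ringKrullDim, ringKrullDim, ringKrullDim, Order.krullDim_eq_iSup_length,
    Order.krullDim_eq_iSup_length (α := PrimeSpectrum (X.presheaf.stalk x ⧸ I)),
    Order.krullDim_eq_iSup_length (α := PrimeSpectrum (X.presheaf.stalk x)), ← WithBot.coe_add,
    WithBot.coe_le_coe]
  refine ENat.iSup_add_iSup_le fun p r => ?_
  ·
    let r' : LTSeries (PrimeSpectrum (X.presheaf.stalk x)) :=
      r.map (PrimeSpectrum.comap (Ideal.Quotient.mk I)) (RingHom.strictMono_comap_of_surjective Ideal.Quotient.mk_surjective)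
    obtain ⟨P, hP, hPle⟩ := Ideal.exists_minimalPrimes_le (show I ≤ r'.head.asIdeal by
      rw [LTSeries.head_map]
      exact fun a ha => show Ideal.Quotient.mk I a ∈ r.head.asIdeal by
        rw [Ideal.Quotient.eq_zero_iff_mem.2 ha]; exact zero_mem _)
    let z := X.fromSpecStalk x (⟨P, hP.1.1⟩ : PrimeSpectrum (X.presheaf.stalk x))
    have hzx : z ⤳ x := (Scheme.range_fromSpecStalk (X := X) (x := x)).le ⟨_, rfl⟩
    have hmem : ∀ q : PrimeSpectrum (X.presheaf.stalk x),
        f (X.fromSpecStalk x q) = f x ↔ I ≤ q.asIdeal := fun q => by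
      rw [← stalkMap_comap_apply, Ideal.map_le_iff_le_comap]
      constructor
      · intro e
        exact (congrArg PrimeSpectrum.asIdeal ((Y.fromSpecStalk (f x)).isEmbedding.injective
          (e.trans Scheme.fromSpecStalk_closedPoint.symm))).ge
      · intro e
        rw [show Spec.map (f.stalkMap x) q = closedPoint _ from PrimeSpectrum.ext
          (le_antisymm (le_maximalIdeal (PrimeSpectrum.comap (f.stalkMap x).hom q).2.ne_top) e),
          Scheme.fromSpecStalk_closedPoint]
    have hfz : f z = f x := (hmem _).2 hP.1.2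
    have hmax : ∀ z', z' ⤳ z → f z' = f x → z' = z := by
      intro z' hz' hfz'
      obtain ⟨q, rfl⟩ : z' ∈ Set.range (X.fromSpecStalk x) := by
        rw [Scheme.range_fromSpecStalk]; exact hz'.trans hzx
      have hle : q.asIdeal ≤ P := (PrimeSpectrum.le_iff_specializes q ⟨P, hP.1.1⟩).2
        ((X.fromSpecStalk x).isEmbedding.isInducing.specializes_iff.1 hz')
      exact congrArg _ (PrimeSpectrum.ext (le_antisymm hle (hP.2 ⟨q.2, (hmem q).1 hfz'⟩ hle)))
    have hdim : (p.length : WithBot ℕ∞) ≤ ringKrullDim (X.presheaf.stalk z) := by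
      have h1 := ringKrullDim_stalk_le_of_liftsAt f z (h z hzx hfz hmax)
      rw [hfz] at h1
      exact le_trans (Order.LTSeries.length_le_krullDim p) h1
    rw [ringKrullDim, Order.krullDim_eq_iSup_length, ← WithBot.coe_natCast, WithBot.coe_le_coe] at hdim
    obtain ⟨s, hs⟩ : ∃ s : LTSeries (PrimeSpectrum (X.presheaf.stalk z)), p.length ≤ s.length := by
      by_contra hne
      push_neg at hne
      rcases hp : p.length with _ | k
      · exact absurd (hne (RelSeries.singleton _ (closedPoint _))) (by omega)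
      · have : (⨆ s : LTSeries (PrimeSpectrum (X.presheaf.stalk z)), (s.length : ℕ∞)) ≤ k :=
          iSup_le fun s => by exact_mod_cast Nat.lt_succ_iff.1 (hp ▸ hne s)
        exact absurd (hdim.trans this) (by rw [hp]; exact_mod_cast Nat.not_succ_le_self k)
    let ψ := X.presheaf.stalkSpecializes hzx
    let e : PrimeSpectrum (X.presheaf.stalk z) → PrimeSpectrum (X.presheaf.stalk x) := Spec.map ψ
    have he : ∀ q, X.fromSpecStalk x (e q) = X.fromSpecStalk z q := fun q => by
      rw [← Scheme.Hom.comp_apply, Scheme.SpecMap_stalkSpecializes_fromSpecStalk]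
    have hinj : Function.Injective e := fun a b hab =>
      (X.fromSpecStalk z).isEmbedding.injective (by rw [← he, ← he, hab])
    let s' := s.map e (Monotone.strictMono_of_injective (fun a b hab => Ideal.comap_mono hab) hinj)
    have hcl : s'.last ≤ (⟨P, hP.1.1⟩ : PrimeSpectrum (X.presheaf.stalk x)) := by
      rw [PrimeSpectrum.le_iff_specializes]
      apply (X.fromSpecStalk x).isEmbedding.isInducing.specializes_iff.1
      rw [LTSeries.last_map, he]
      exact (Scheme.range_fromSpecStalk (X := X) (x := z)).le ⟨s.last, rfl⟩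
    refine le_trans (add_le_add (show (p.length : ℕ∞) ≤ s.length by exact_mod_cast hs) le_rfl) ?_
    obtain ⟨t, ht⟩ : ∃ t : LTSeries (PrimeSpectrum (X.presheaf.stalk x)), s.length + r.length ≤ t.length := by
      rcases eq_or_lt_of_le (hcl.trans hPle) with he' | hlt
      · exact ⟨s'.smash r' he', by simp [s', r']⟩
      · exact ⟨s'.append r' hlt, by simp [s', r']⟩
    exact le_iSup_of_le t (by exact_mod_cast ht)

end Groth.Agent.EGA43Top
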