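import Groth.Agent.Lib.EGA43Top.UnivOpenAt
import Groth.Agent.Lib.H12.Specialization
import Groth.Agent.Lib.DVRVal.Univ
import Mathlib.AlgebraicGeometry.Morphisms.FinitePresentation
import Mathlib.RingTheory.Spectrum.Prime.ConstructibleSet

/-!
# Openness at a point: lifting of generizations and reduction to finite type base changes
-/

universe u

set_option linter.style.haveILetI false
set_option backward.isDefEq.respectTransparency false

open CategoryTheory CategoryTheory.Limits AlgebraicGeometry Topology TopologicalSpace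

namespace Groth.Agent.EGA43Top

/-- Every generization of the image lifts to a generization. -/
def LiftsAt {X Y : Scheme.{u}} (f : X ⟶ Y) (x : X) : Prop :=
  ∀ y', y' ⤳ f x → ∃ x', x' ⤳ x ∧ f x' = y'

/-- A locally constructible set containing all generizations of a point is a neighbourhood of it. -/
theorem mem_nhds_of_generizations {Y : Scheme.{u}} {C : Set Y} (hC : IsLocallyConstructible C)
    {y : Y} (h : ∀ y', y' ⤳ y → y' ∈ C) : C ∈ nhds y := by
  obtain ⟨U, hU, hyU, -⟩ := exists_isAffineOpen_mem_and_subset (X := Y) (x := y) (U := ⊤) trivial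
  obtain ⟨q, hq⟩ : y ∈ Set.range hU.fromSpec := by rw [hU.range_fromSpec]; exact hyU
  have hc : IsConstructible (hU.fromSpec ⁻¹' C)ᶜ :=
    (hC.preimage_of_isOpenEmbedding hU.fromSpec.isOpenEmbedding).isConstructible.compl
  obtain ⟨B, _, φ, hφ⟩ := PrimeSpectrum.exists_range_eq_of_isConstructible hc
  have hq' : q ∉ closure (hU.fromSpec ⁻¹' C)ᶜ := by
    intro hcl
    rw [← hφ] at hcl
    obtain ⟨t, ht⟩ := H12.exists_specializes_of_mem_closure_range_Spec (CommRingCat.ofHom φ) q hcl
    have hmem : Spec.map (CommRingCat.ofHom φ) t ∈ (hU.fromSpec ⁻¹' C)ᶜ := hφ.le ⟨t, rfl⟩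
    exact hmem (h _ (hq ▸ ht.map hU.fromSpec.continuous))
  refine Filter.mem_of_superset ((hU.fromSpec.isOpenEmbedding.isOpenMap _
    isClosed_closure.isOpen_compl).mem_nhds ⟨q, hq', hq⟩) ?_
  rintro _ ⟨z, hz, rfl⟩
  exact not_not.1 fun hzC => hz (subset_closure hzC)

/-- If generizations lift, a morphism locally of finite presentation is open at the point. -/
theorem isOpenAt_of_liftsAt {X Y : Scheme.{u}} {f : X ⟶ Y} [LocallyOfFinitePresentation f] {x : X}
    (h : LiftsAt f x) : EGA43.IsOpenAt f.base x := by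
  intro U hU
  obtain ⟨W, hWU, hW, hxW⟩ := mem_nhds_iff.1 hU
  obtain ⟨V, hV, hfxV, -⟩ := exists_isAffineOpen_mem_and_subset (X := Y) (x := f x) (U := ⊤) trivial
  obtain ⟨W', hW', hxW', hW'le⟩ := exists_isAffineOpen_mem_and_subset (X := X) (x := x)
    (U := ⟨W, hW⟩ ⊓ f ⁻¹ᵁ V) ⟨hxW, hfxV⟩
  let φ := f.resLE V W' (fun z hz => (hW'le hz).2)
  haveI : IsAffine V.toScheme := hV
  haveI : IsAffine W'.toScheme := hW'
  haveI : LocallyOfFinitePresentation φ := by
    show LocallyOfFinitePresentation (f.resLE V W' _)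
    delta Scheme.Hom.resLE; infer_instance
  have hc : IsLocallyConstructible (Set.range φ) := by
    rw [← Set.image_univ]
    exact φ.isLocallyConstructible_image IsLocallyConstructible.univ
  have hφ : ∀ w, V.ι (φ w) = f (W'.ι w) := fun w => by
    rw [← Scheme.Hom.comp_apply, Scheme.Hom.resLE_comp_ι, Scheme.Hom.comp_apply]
  have hn : Set.range φ ∈ nhds (⟨f x, hfxV⟩ : V.toScheme) := by
    refine mem_nhds_of_generizations hc fun v hv => ?_
    obtain ⟨x', hx', hfx'⟩ := h (V.ι v) (hv.map V.ι.continuous)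
    refine ⟨⟨x', hx'.mem_open W'.2 hxW'⟩, V.ι.isEmbedding.injective ?_⟩
    rw [hφ]
    exact hfx'
  refine Filter.mem_of_superset (V.ι.isOpenEmbedding.isOpenMap.image_mem_nhds hn) ?_
  rintro _ ⟨_, ⟨w, rfl⟩, rfl⟩
  exact ⟨W'.ι w, hWU (hW'le w.2).1, (hφ w).symm⟩

/-- At a point where a morphism is open, generizations lift. -/
theorem liftsAt_of_isOpenAt {X Y : Scheme.{u}} {f : X ⟶ Y} {x : X} (h : EGA43.IsOpenAt f.base x) :
    LiftsAt f x := by
  intro y' hy
  obtain ⟨V, hV, hfxV, -⟩ := exists_isAffineOpen_mem_and_subset (X := Y) (x := f x) (U := ⊤) trivial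
  obtain ⟨W, hW, hxW, hle⟩ := exists_isAffineOpen_mem_and_subset (X := X) (x := x) (U := f ⁻¹ᵁ V) hfxV
  haveI : IsAffine V.toScheme := hV
  haveI : IsAffine W.toScheme := hW
  let φ := f.resLE V W hle
  let y₀ : V.toScheme := ⟨y', hy.mem_open V.2 hfxV⟩
  have hφ : ∀ w, V.ι (φ w) = f (W.ι w) := fun w => by
    rw [← Scheme.Hom.comp_apply, Scheme.Hom.resLE_comp_ι, Scheme.Hom.comp_apply]
  haveI : QuasiCompact (φ.fiberι y₀) := MorphismProperty.pullback_fst _ _ inferInstance
  have hx : (⟨x, hxW⟩ : W.toScheme) ∈ closure (Set.range (φ.fiberι y₀)) := by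
    rw [Scheme.Hom.range_fiberι, mem_closure_iff]
    intro o ho hxo
    have h2 := h (W.ι '' o) ((W.ι.isOpenEmbedding.isOpenMap o ho).mem_nhds ⟨_, hxo, rfl⟩)
    obtain ⟨O, hO, hOo, hfxO⟩ := mem_nhds_iff.1 h2
    obtain ⟨_, ⟨w, hwo, rfl⟩, hw⟩ := hO (hy.mem_open hOo hfxO)
    exact ⟨w, hwo, V.ι.isEmbedding.injective ((hφ w).trans hw)⟩
  obtain ⟨t, ht⟩ := H12.exists_specializes_of_mem_closure_range (φ.fiberι y₀) _ hx
  refine ⟨W.ι (φ.fiberι y₀ t), ht.map W.ι.continuous, ?_⟩
  rw [← hφ, show φ (φ.fiberι y₀ t) = y₀ from (φ.range_fiberι y₀).le ⟨t, rfl⟩]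
  rfl

theorem isOpenAt_iff_liftsAt {X Y : Scheme.{u}} (f : X ⟶ Y) [LocallyOfFinitePresentation f] (x : X) :
    EGA43.IsOpenAt f.base x ↔ LiftsAt f x :=
  ⟨liftsAt_of_isOpenAt, isOpenAt_of_liftsAt⟩

/-- For a morphism locally of finite presentation, universal openness at a point is universal lifting
of generizations. -/
theorem isUnivOpenAt_iff_liftsAt {X Y : Scheme.{u}} (f : X ⟶ Y) [LocallyOfFinitePresentation f] (x : X) :
    EGA43.IsUnivOpenAt f x ↔ ∀ (Y' : Scheme.{u}) (g : Y' ⟶ Y) (x' : ↥(pullback f g)),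
      pullback.fst f g x' = x → LiftsAt (pullback.snd f g) x' :=
  forall₄_congr fun _ _ _ _ => isOpenAt_iff_liftsAt _ _

/-- Universal openness at a point can be tested on base changes locally of finite type. -/
theorem isUnivOpenAt_of_finiteType {X Y : Scheme.{u}} (f : X ⟶ Y) (x : X)
    (H : ∀ (Y' : Scheme.{u}) (g : Y' ⟶ Y), LocallyOfFiniteType g → ∀ x' : ↥(pullback f g),
      pullback.fst f g x' = x → EGA43.IsOpenAt (pullback.snd f g).base x') :
    EGA43.IsUnivOpenAt f x := by
  classical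
  intro T g x' hx'
  obtain ⟨U, hU, htU, -⟩ := exists_isAffineOpen_mem_and_subset (X := Y)
    (x := g (pullback.snd f g x')) (U := ⊤) trivial
  obtain ⟨V, hV, htV, hVU⟩ := exists_isAffineOpen_mem_and_subset (X := T)
    (x := pullback.snd f g x') (U := g ⁻¹ᵁ U) htU
  letI : Algebra Γ(Y, U) Γ(T, V) := (g.appLE U V hVU).hom.toAlgebra
  have hk : hV.fromSpec ≫ g = DVRVal.baseMap Γ(Y, U) Γ(T, V) hU.fromSpec :=
    (IsAffineOpen.SpecMap_appLE_fromSpec g hU hV hVU).symm
  let j := hU.fromSpec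
  let b := DVRVal.baseMap Γ(Y, U) Γ(T, V) j
  obtain ⟨q, hq⟩ : pullback.snd f g x' ∈ Set.range hV.fromSpec := by
    rw [hV.range_fromSpec]; exact htV
  have hbig : IsPullback (pullback.map f b f g (𝟙 X) hV.fromSpec (𝟙 Y) (by simp)
      (by rw [Category.comp_id]; exact hk.symm)) (pullback.snd f b) (pullback.snd f g) hV.fromSpec := by
    refine IsPullback.of_right ?_ (pullback.lift_snd _ _ _) (IsPullback.of_hasPullback f g)
    rw [show pullback.map f b f g (𝟙 X) hV.fromSpec (𝟙 Y) (by simp)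
      (by rw [Category.comp_id]; exact hk.symm) ≫ pullback.fst f g = pullback.fst f b from
        (pullback.lift_fst _ _ _).trans (Category.comp_id _), hk]
    exact IsPullback.of_hasPullback f b
  obtain ⟨z, hz1, hz2⟩ := Scheme.exists_preimage_of_isPullback hbig x' q hq.symm
  set m := pullback.map f b f g (𝟙 X) hV.fromSpec (𝟙 Y) (by simp)
      (by rw [Category.comp_id]; exact hk.symm) with hm
  have hzx : pullback.fst f b z = x := by
    rw [← hx', ← hz1, ← Scheme.Hom.comp_apply, hm, pullback.lift_fst, Category.comp_id]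
  intro N hN
  obtain ⟨W, hWN, hW, hzW⟩ := mem_nhds_iff.1 (m.continuous.continuousAt.preimage_mem_nhds (hz1.symm ▸ hN))
  obtain ⟨S, N', hzN', hS⟩ := DVRVal.exists_descend_nhd f j z ⟨W, hW⟩ hzW
  let B' := Algebra.adjoin Γ(Y, U) (S : Set Γ(T, V))
  obtain ⟨W', hzW', hW'⟩ := hS B' Algebra.subset_adjoin z hzN'
  haveI : Algebra.FiniteType Γ(Y, U) B' := (Subalgebra.fg_iff_finiteType B').mp ⟨S, rfl⟩
  haveI : LocallyOfFiniteType (DVRVal.baseMap Γ(Y, U) B' j) := by
    haveI : LocallyOfFiniteType (Spec.map (CommRingCat.ofHom (algebraMap Γ(Y, U) B'))) := by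
      rw [HasRingHomProperty.Spec_iff (P := @LocallyOfFiniteType)]
      exact RingHom.finiteType_algebraMap.mpr inferInstance
    infer_instance
  have hzx' : pullback.fst f (DVRVal.baseMap Γ(Y, U) B' j) (DVRVal.transMap f j B' z) = x := by
    rw [← hzx, ← Scheme.Hom.comp_apply, pullback.lift_fst, Category.comp_id]
  obtain ⟨O, hO, hOo, hsO⟩ := mem_nhds_iff.1 (H _ _ inferInstance _ hzx' (W' : Set _) (W'.2.mem_nhds hzW'))
  have hsq := DVRVal.isPullback_transMap f j B'
  have hzO : q ∈ DVRVal.toSub B' ⁻¹' O := by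
    rw [Set.mem_preimage, ← hz2, ← Scheme.Hom.comp_apply, ← hsq.w]
    exact hsO
  rw [← hq]
  refine Filter.mem_of_superset ((hV.fromSpec.isOpenEmbedding.isOpenMap _
    (hOo.preimage (DVRVal.toSub B').continuous)).mem_nhds ⟨q, hzO, rfl⟩) ?_
  rintro _ ⟨q', hq', rfl⟩
  obtain ⟨w, hw, hwq⟩ := hO hq'
  obtain ⟨p, hp1, hp2⟩ := Scheme.exists_preimage_of_isPullback hsq w q' hwq
  refine ⟨m p, hWN (hW' p (by rw [hp1]; exact hw)), ?_⟩
  rw [← hp2]
  exact congrArg (fun φ : _ ⟶ T => φ p) hbig.w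

theorem universallyOpen_iff_forall_isUnivOpenAt {X Y : Scheme.{u}} (f : X ⟶ Y) :
    UniversallyOpen f ↔ ∀ x, EGA43.IsUnivOpenAt f x := by
  refine ⟨fun h x Y' g x' _ U hU => ?_, fun h => ⟨?_⟩⟩
  · exact (Scheme.Hom.isOpenMap (pullback.snd f g)).image_mem_nhds hU
  · intro X' Y' a g b sq U hU
    rw [isOpen_iff_mem_nhds]
    rintro _ ⟨x', hx', rfl⟩
    exact isUnivOpenAt_iff.1 (h (a x')) _ _ a b g sq.flip x' rfl U (hU.mem_nhds hx')

/-- Openness at a point descends along closed surjections. -/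
theorem isOpenAt_of_closed_surjective {X Y Y₁ : Scheme.{u}} (v : Y₁ ⟶ Y) (hv : IsClosedMap v.base)
    [Surjective v] (f : X ⟶ Y) (x : X)
    (h : ∀ x₁ : ↥(pullback f v), pullback.fst f v x₁ = x → EGA43.IsOpenAt (pullback.snd f v).base x₁) :
    EGA43.IsOpenAt f.base x := by
  intro U hU
  let O := interior ((pullback.snd f v).base '' ((pullback.fst f v).base ⁻¹' U))
  have hO : ∀ y₁, v y₁ = f x → y₁ ∈ O := by
    intro y₁ hy₁
    obtain ⟨x₁, hx₁, rfl⟩ := Scheme.Pullback.exists_preimage_pullback (f := f) (g := v) x y₁ hy₁.symm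
    exact mem_interior_iff_mem_nhds.2 (h x₁ hx₁ _
      ((pullback.fst f v).continuous.continuousAt.preimage_mem_nhds (hx₁.symm ▸ hU)))
  refine Filter.mem_of_superset ((hv _ isOpen_interior.isClosed_compl).isOpen_compl.mem_nhds
    (show f x ∈ (v.base '' Oᶜ)ᶜ from ?_)) ?_
  · rintro ⟨y₁, hy₁, e⟩
    exact hy₁ (hO y₁ e)
  · intro y hy
    obtain ⟨y₁, rfl⟩ := v.surjective y
    obtain ⟨p, hp, hpy⟩ := interior_subset (not_not.1 fun hn => hy ⟨y₁, hn, rfl⟩ : y₁ ∈ O)
    refine ⟨_, hp, ?_⟩
    rw [← hpy]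
    exact congrArg (fun φ : _ ⟶ Y => φ p) pullback.condition

/-- Universal openness at a point descends along universally closed surjections. -/
theorem isUnivOpenAt_of_universallyClosed_surjective {X Y Y₁ : Scheme.{u}} (v : Y₁ ⟶ Y)
    [UniversallyClosed v] [Surjective v] (f : X ⟶ Y) (x : X)
    (h : ∀ x₁ : ↥(pullback f v), pullback.fst f v x₁ = x → EGA43.IsUnivOpenAt (pullback.snd f v) x₁) :
    EGA43.IsUnivOpenAt f x := by
  intro T g x' hx'
  haveI : Surjective (pullback.snd v g) := MorphismProperty.pullback_snd _ _ inferInstance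
  haveI : UniversallyClosed (pullback.snd v g) := MorphismProperty.pullback_snd _ _ inferInstance
  refine isOpenAt_of_closed_surjective (pullback.snd v g) (pullback.snd v g).isClosedMap _ _
    fun p hp => ?_
  let v' := pullback.snd v g
  let f' := pullback.snd f g
  let k : pullback f' v' ⟶ pullback f v := pullback.lift (pullback.fst f' v' ≫ pullback.fst f g)
    (pullback.snd f' v' ≫ pullback.fst v g) (by
      rw [Category.assoc, Category.assoc, pullback.condition, pullback.condition (f := v) (g := g),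
        ← Category.assoc, ← Category.assoc, pullback.condition])
  have hsq : IsPullback k (pullback.snd f' v') (pullback.snd f v) (pullback.fst v g) := by
    refine IsPullback.of_right ?_ (pullback.lift_snd _ _ _) (IsPullback.of_hasPullback f v)
    rw [show k ≫ pullback.fst f v = pullback.fst f' v' ≫ pullback.fst f g from pullback.lift_fst _ _ _,
      pullback.condition (f := v) (g := g)]
    exact (IsPullback.of_hasPullback f' v').paste_horiz (IsPullback.of_hasPullback f g)
  refine isUnivOpenAt_iff.1 (h (k p) ?_) _ _ _ _ _ hsq p rfl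
  rw [← Scheme.Hom.comp_apply, pullback.lift_fst, Scheme.Hom.comp_apply, hp, hx']

/-- Universal openness at a point only depends on the base change to the local ring of its image. -/
theorem isUnivOpenAt_iff_fromSpecStalk {X Y : Scheme.{u}} (f : X ⟶ Y) [LocallyOfFinitePresentation f]
    (x : X) (x₁ : ↥(pullback f (Y.fromSpecStalk (f x))))
    (hx₁ : pullback.fst f (Y.fromSpecStalk (f x)) x₁ = x) :
    EGA43.IsUnivOpenAt f x ↔ EGA43.IsUnivOpenAt (pullback.snd f (Y.fromSpecStalk (f x))) x₁ := by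
  refine ⟨fun h => isUnivOpenAt_baseChange (IsPullback.of_hasPullback f _) (hx₁.symm ▸ h), fun h => ?_⟩
  rw [isUnivOpenAt_iff_liftsAt]
  intro T g x' hx' t'' ht
  let t := pullback.snd f g x'
  obtain ⟨s, hs⟩ : t'' ∈ Set.range (T.fromSpecStalk t) := by rw [Scheme.range_fromSpecStalk]; exact ht
  have hgt : g t = f x := by
    rw [← hx', ← Scheme.Hom.comp_apply, ← Scheme.Hom.comp_apply, pullback.condition]
  let k := Spec.map (Y.presheaf.stalkSpecializes (specializes_of_eq hgt) ≫ g.stalkMap t)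
  have hk : k ≫ Y.fromSpecStalk (f x) = T.fromSpecStalk t ≫ g := by
    rw [show k = Spec.map (g.stalkMap t) ≫ Spec.map (Y.presheaf.stalkSpecializes (specializes_of_eq hgt))
      from Spec.map_comp _ _, Category.assoc, Scheme.SpecMap_stalkSpecializes_fromSpecStalk,
      Scheme.SpecMap_stalkMap_fromSpecStalk]
  let f₁ := pullback.snd f (Y.fromSpecStalk (f x))
  let P := pullback (pullback.snd f g) (T.fromSpecStalk t)
  obtain ⟨p, hp1, hp2⟩ := Scheme.Pullback.exists_preimage_pullback (f := pullback.snd f g)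
    (g := T.fromSpecStalk t) x' (IsLocalRing.closedPoint _) Scheme.fromSpecStalk_closedPoint.symm
  let m : P ⟶ pullback f (Y.fromSpecStalk (f x)) := pullback.lift
    (pullback.fst _ _ ≫ pullback.fst f g) (pullback.snd _ _ ≫ k) (by
      rw [Category.assoc, Category.assoc, hk, pullback.condition, ← Category.assoc, ← Category.assoc,
        pullback.condition])
  have hm : IsPullback m (pullback.snd _ _) f₁ k := by
    refine IsPullback.of_right ?_ (pullback.lift_snd _ _ _) (IsPullback.of_hasPullback f _)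
    rw [show m ≫ pullback.fst f (Y.fromSpecStalk (f x)) = pullback.fst _ _ ≫ pullback.fst f g from
      pullback.lift_fst _ _ _, hk]
    exact (IsPullback.of_hasPullback (pullback.snd f g) (T.fromSpecStalk t)).paste_horiz
      (IsPullback.of_hasPullback f g)
  have hmp : m p = x₁ := by
    apply (pullback.fst f (Y.fromSpecStalk (f x))).isEmbedding.injective
    rw [hx₁, ← Scheme.Hom.comp_apply, pullback.lift_fst, Scheme.Hom.comp_apply, hp1, hx']
  obtain ⟨z, hz, hzs⟩ := liftsAt_of_isOpenAt (isUnivOpenAt_iff.1 h _ _ _ _ _ hm p hmp) s (by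
    rw [hp2]
    exact IsLocalRing.specializes_closedPoint s)
  refine ⟨(pullback.fst (pullback.snd f g) (T.fromSpecStalk t)) z, hp1 ▸ hz.map (pullback.fst (pullback.snd f g) _).continuous, ?_⟩
  rw [← Scheme.Hom.comp_apply, pullback.condition, Scheme.Hom.comp_apply, hzs, hs]

end Groth.Agent.EGA43Top
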