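import Groth.Agent.Lib.EGA43Top.GoldmanRing
import Mathlib.Topology.Sober
import Mathlib.AlgebraicGeometry.AffineScheme
import Mathlib.AlgebraicGeometry.Morphisms.ClosedImmersion
import Mathlib.AlgebraicGeometry.Morphisms.Immersion

/-!
Locally closed points of locally Noetherian schemes.
-/

universe u

open Set Topology AlgebraicGeometry CategoryTheory

namespace Groth.Agent.EGA43Top

lemma isClosedEmbedding_quotient {A : Type u} [CommRing A] (I : Ideal A) :
    IsClosedEmbedding (PrimeSpectrum.comap (Ideal.Quotient.mk I)) :=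
  PrimeSpectrum.isClosedEmbedding_comap_of_surjective _ _ Ideal.Quotient.mk_surjective

lemma range_comap_quotient {A : Type u} [CommRing A] (p : PrimeSpectrum A) :
    range (PrimeSpectrum.comap (Ideal.Quotient.mk p.asIdeal)) = closure {p} := by
  rw [range_comap_of_surjective _ _ Ideal.Quotient.mk_surjective, Ideal.mk_ker,
    PrimeSpectrum.closure_singleton]

lemma finite_closure_of_isLocallyClosed_singleton {A : Type u} [CommRing A] [IsNoetherianRing A]
    {p : PrimeSpectrum A} (hp : IsLocallyClosed ({p} : Set (PrimeSpectrum A))) :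
    (closure {p}).Finite ∧ ringKrullDim (A ⧸ p.asIdeal) ≤ 1 ∧
      Finite (MaximalSpectrum (A ⧸ p.asIdeal)) := by
  set φ := PrimeSpectrum.comap (Ideal.Quotient.mk p.asIdeal)
  have hopen : IsOpen ({⟨⊥, Ideal.isPrime_bot⟩} : Set (PrimeSpectrum (A ⧸ p.asIdeal))) := by
    obtain ⟨U, F, hU, hF, e⟩ := hp
    have hpUF : p ∈ U ∩ F := e ▸ mem_singleton p
    convert hU.preimage (PrimeSpectrum.continuous_comap (Ideal.Quotient.mk p.asIdeal)) using 1
    ext q
    have hφ0 : φ ⟨⊥, Ideal.isPrime_bot⟩ = p :=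
      PrimeSpectrum.ext (show Ideal.comap (Ideal.Quotient.mk p.asIdeal) ⊥ = p.asIdeal by
        rw [← RingHom.ker_eq_comap_bot, Ideal.mk_ker])
    refine ⟨fun hq => ?_, fun hq => ?_⟩
    · rw [mem_singleton_iff.1 hq]; exact (hφ0.symm ▸ hpUF.1 :)
    · refine (isClosedEmbedding_quotient p.asIdeal).injective ?_
      change φ q = φ _
      rw [hφ0]
      have hF' : closure {p} ⊆ F := closure_minimal (singleton_subset_iff.2 hpUF.2) hF
      have : φ q ∈ U ∩ F := ⟨hq, hF' (range_comap_quotient p ▸ mem_range_self q)⟩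
      rw [← e] at this
      exact this
  have h1 := exists_isField_away_iff_isOpen.2 hopen
  have h12 : Finite (PrimeSpectrum (A ⧸ p.asIdeal)) := ((goldman_tfae (B := A ⧸ p.asIdeal)).out 0 1).1 h1
  have h13 : Finite (MaximalSpectrum (A ⧸ p.asIdeal)) ∧ ringKrullDim (A ⧸ p.asIdeal) ≤ 1 :=
    ((goldman_tfae (B := A ⧸ p.asIdeal)).out 0 2).1 h1
  exact ⟨range_comap_quotient p ▸ finite_range _, h13.2, h13.1⟩

lemma specializes_eq_or_eq {A : Type u} [CommRing A] [IsNoetherianRing A] {p q r : PrimeSpectrum A}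
    (hp : IsLocallyClosed ({p} : Set (PrimeSpectrum A))) (hpq : p ⤳ q) (hqr : q ⤳ r) :
    q = p ∨ r = q := by
  obtain ⟨-, hdim, -⟩ := finite_closure_of_isLocallyClosed_singleton hp
  rw [← PrimeSpectrum.le_iff_specializes] at hpq hqr
  have : Ring.KrullDimLE 1 (A ⧸ p.asIdeal) := by rwa [Ring.krullDimLE_iff, Nat.cast_one]
  refine or_iff_not_imp_left.2 fun hne => PrimeSpectrum.ext ?_
  have hk : ∀ s : PrimeSpectrum A, p ≤ s → ∃ s' : Ideal (A ⧸ p.asIdeal), s'.IsPrime ∧
      s'.comap (Ideal.Quotient.mk p.asIdeal) = s.asIdeal := fun s hs => by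
    refine ⟨s.asIdeal.map (Ideal.Quotient.mk p.asIdeal), Ideal.map_isPrime_of_surjective
      Ideal.Quotient.mk_surjective (by rw [Ideal.mk_ker]; exact hs), ?_⟩
    rw [Ideal.comap_map_of_surjective _ Ideal.Quotient.mk_surjective, ← RingHom.ker_eq_comap_bot,
      Ideal.mk_ker, sup_eq_left]
    exact hs
  obtain ⟨q', hq', eq'⟩ := hk q hpq
  obtain ⟨r', hr', er'⟩ := hk r (hpq.trans hqr)
  have hq0 : q' ≠ ⊥ := fun e => hne (PrimeSpectrum.ext (by
    rw [← eq', e, ← RingHom.ker_eq_comap_bot, Ideal.mk_ker]))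
  have hle : q' ≤ r' := by
    rw [← Ideal.map_comap_of_surjective _ Ideal.Quotient.mk_surjective q',
      ← Ideal.map_comap_of_surjective _ Ideal.Quotient.mk_surjective r', eq', er']
    exact Ideal.map_mono hqr
  rw [← er', ← eq', (Ring.krullDimLE_one_iff_of_noZeroDivisors.1 this q' hq0 hq').eq_of_le hr'.ne_top hle]

variable {X : Scheme.{u}}

lemma scheme_specializes_eq_or_eq [IsLocallyNoetherian X] {x y z : X}
    (hx : IsLocallyClosed ({x} : Set X)) (hxy : x ⤳ y) (hyz : y ⤳ z) : y = x ∨ z = y := by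
  obtain ⟨_, ⟨U, hU, rfl⟩, hzU, -⟩ :=
    X.isBasis_affineOpens.exists_subset_of_mem_open (mem_univ z) isOpen_univ
  have := IsLocallyNoetherian.component_noetherian ⟨U, hU⟩
  have hyU : y ∈ (U : Set X) := hyz.mem_open U.2 hzU
  have hxU : x ∈ (U : Set X) := hxy.mem_open U.2 hyU
  rw [← hU.range_fromSpec] at hzU hyU hxU
  obtain ⟨a, rfl⟩ := hxU; obtain ⟨b, rfl⟩ := hyU; obtain ⟨c, rfl⟩ := hzU
  have := hU.isOpenImmersion_fromSpec
  have hi := hU.fromSpec.isOpenEmbedding
  have ha : IsLocallyClosed ({a} : Set (Spec Γ(X, U))) := by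
    have := hx.preimage hi.continuous
    rwa [← image_singleton (f := hU.fromSpec), preimage_image_eq _ hi.injective] at this
  rcases specializes_eq_or_eq (A := Γ(X, U)) ha (hi.isInducing.specializes_iff.1 hxy)
      (hi.isInducing.specializes_iff.1 hyz) with h | h
  · exact Or.inl (congrArg _ h)
  · exact Or.inr (congrArg _ h)

lemma scheme_finite_closure [IsNoetherian X] {x : X} (hx : IsLocallyClosed ({x} : Set X)) :
    (closure {x} : Set X).Finite := by
  obtain ⟨t, ht⟩ := isCompact_univ.elim_finite_subcover (fun U : X.affineOpens => (U.1 : Set X))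
    (fun U => U.1.2) (fun y _ => by
      obtain ⟨_, ⟨U, hU, rfl⟩, hyU, -⟩ :=
        X.isBasis_affineOpens.exists_subset_of_mem_open (mem_univ y) isOpen_univ
      exact mem_iUnion.2 ⟨⟨U, hU⟩, hyU⟩)
  have hfin : ∀ U : X.affineOpens, ((U.1 : Set X) ∩ closure {x}).Finite := by
    intro U
    by_cases hxU : x ∈ U.1
    · have := IsLocallyNoetherian.component_noetherian U
      have := U.2.isOpenImmersion_fromSpec
      have hi := U.2.fromSpec.isOpenEmbedding
      have hxU' : x ∈ range U.2.fromSpec := by rw [U.2.range_fromSpec]; exact hxU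
      obtain ⟨a, rfl⟩ := hxU'
      have ha : IsLocallyClosed ({a} : Set (Spec Γ(X, U.1))) := by
        have := hx.preimage hi.continuous
        rwa [← image_singleton (f := U.2.fromSpec), preimage_image_eq _ hi.injective] at this
      refine ((finite_closure_of_isLocallyClosed_singleton (A := Γ(X, U.1)) ha).1.image U.2.fromSpec).subset ?_
      rintro z ⟨hzU, hz⟩
      rw [← U.2.range_fromSpec] at hzU
      obtain ⟨b, rfl⟩ := hzU
      exact ⟨b, (specializes_iff_mem_closure.1 (hi.isInducing.specializes_iff.1 (specializes_iff_mem_closure.2 hz))), rfl⟩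
    · convert finite_empty
      exact eq_empty_of_forall_notMem fun z hz => hxU ((specializes_iff_mem_closure.2 hz.2).mem_open U.1.2 hz.1)
  refine (t.finite_toSet.biUnion fun U _ => hfin U).subset fun z hz => ?_
  obtain ⟨U, hU, hzU⟩ := mem_iUnion₂.1 (ht (mem_univ z))
  exact mem_biUnion hU ⟨hzU, hz⟩

/-- every nonempty locally closed subset contains a locally closed point -/
lemma exists_mem_isLocallyClosed_singleton {Z : Set X} (hZ : IsLocallyClosed Z) (hne : Z.Nonempty) :
    ∃ z ∈ Z, IsLocallyClosed ({z} : Set X) := by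
  obtain ⟨U, F, hU, hF, rfl⟩ := hZ
  obtain ⟨x, hxU, hxF⟩ := hne
  obtain ⟨_, ⟨V, hV, rfl⟩, hxV, hVU⟩ := X.isBasis_affineOpens.exists_subset_of_mem_open hxU hU
  have : CompactSpace ↥(V : Set X) := isCompact_iff_compactSpace.1 hV.isCompact
  obtain ⟨z, hz, hzc⟩ := (hF.preimage continuous_subtype_val).exists_closed_singleton
    (X := ↥(V : Set X)) ⟨⟨x, hxV⟩, hxF⟩
  refine ⟨z, ⟨hVU z.2, hz⟩, ?_⟩
  rw [← image_singleton (f := Subtype.val)]
  exact hzc.isLocallyClosed.image IsInducing.subtypeVal
    (by rw [Subtype.range_coe]; exact V.2.isLocallyClosed)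

lemma isClosed_singleton_of_no_proper {x : X} (h : ∀ y, x ⤳ y → y = x) : IsClosed ({x} : Set X) := by
  rw [← closure_subset_iff_isClosed]
  exact fun y hy => h y (specializes_iff_mem_closure.2 hy)

lemma isClosed_singleton_compl [IsLocallyNoetherian X] {Y : Set X} (hY : IsClosed Y)
    (hmeet : ∀ Z : Set X, IsClosed Z → Z.Nonempty → (Z ∩ Y).Nonempty) (z : ↥(Yᶜ))
    (hz : IsLocallyClosed ({(z : X)} : Set X)) : IsClosed ({z} : Set ↥(Yᶜ)) := by
  rw [← closure_subset_iff_isClosed]
  intro w hw
  rw [closure_subtype, image_singleton] at hw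
  have hzw := specializes_iff_mem_closure.2 hw
  obtain ⟨y, hy, hyY⟩ := hmeet (closure {(w : X)}) isClosed_closure ⟨_, subset_closure rfl⟩
  rcases scheme_specializes_eq_or_eq hz hzw (specializes_iff_mem_closure.2 hy) with h | h
  · exact Subtype.ext h
  · exact absurd hyY (h ▸ w.2)

lemma jacobsonSpace_compl [IsLocallyNoetherian X] {Y : Set X} (hY : IsClosed Y)
    (hmeet : ∀ Z : Set X, IsClosed Z → Z.Nonempty → (Z ∩ Y).Nonempty) : JacobsonSpace ↥(Yᶜ) := by
  rw [jacobsonSpace_iff_locallyClosed]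
  intro Z hne hlc
  have hlc' : IsLocallyClosed (Subtype.val '' Z : Set X) :=
    hlc.image IsInducing.subtypeVal (by rw [Subtype.range_coe]; exact hY.isOpen_compl.isLocallyClosed)
  obtain ⟨_, ⟨z, hz, rfl⟩, hzlc⟩ := exists_mem_isLocallyClosed_singleton hlc' (hne.image _)
  exact ⟨z, hz, isClosed_singleton_compl hY hmeet z hzlc⟩

lemma topologicalKrullDim_le_one_iff {T : Type*} [TopologicalSpace T] [QuasiSober T] [T0Space T] :
    topologicalKrullDim T ≤ 1 ↔ ∀ x y z : T, x ⤳ y → y ⤳ z → y = x ∨ z = y := by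
  let : PartialOrder T := specializationOrder T
  rw [topologicalKrullDim, Order.krullDim_eq_of_orderIso irreducibleSetEquivPoints,
    Order.krullDim_le_one_iff]
  refine ⟨fun h x y z hxy hyz => ?_, fun h y => ?_⟩
  · rcases h y with hy | hy
    · exact Or.inr ((hy hyz).antisymm hyz |>.symm)
    · exact Or.inl ((hy hxy).antisymm hxy).symm
  · refine or_iff_not_imp_left.2 fun hy x hxy => ?_
    simp only [IsMin, not_forall] at hy
    obtain ⟨z, hz, hzy⟩ := hy
    rcases h x y z hxy hz with e | e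
    · exact e ▸ le_rfl
    · exact absurd (e ▸ le_rfl) hzy

lemma genericPoint_tfae [IsNoetherian X] [IrreducibleSpace X] :
    [IsOpen ({genericPoint X} : Set X),
      Finite X,
      topologicalKrullDim X ≤ 1 ∧ {x : X | IsClosed ({x} : Set X)}.Finite].TFAE := by
  have hcl : closure {genericPoint X} = (univ : Set X) := genericPoint_closure X
  have hgen : ∀ y, genericPoint X ⤳ y := fun y =>
    specializes_iff_mem_closure.2 (by rw [hcl]; trivial)
  tfae_have 1 → 2 := by
    intro h
    have := scheme_finite_closure h.isLocallyClosed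
    rw [hcl] at this
    exact finite_univ_iff.1 this
  tfae_have 2 → 1 := by
    intro h
    have : ({genericPoint X} : Set X)ᶜ = ⋃ y ∈ ({genericPoint X}ᶜ : Set X), closure {y} := by
      refine Subset.antisymm (fun y hy => mem_biUnion hy (subset_closure rfl)) ?_
      refine iUnion₂_subset fun y hy w hw (hwg : w = genericPoint X) => hy ?_
      exact (hwg ▸ specializes_iff_mem_closure.2 hw).antisymm (hgen y) |>.eq
    rw [← isClosed_compl_iff, this]
    exact (toFinite _).isClosed_biUnion fun _ _ => isClosed_closure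
  tfae_have 1 → 3 := by
    intro h
    refine ⟨topologicalKrullDim_le_one_iff.2 fun x y z hxy hyz => ?_, ?_⟩
    · rcases scheme_specializes_eq_or_eq h.isLocallyClosed (hgen y) hyz with e | e
      · exact Or.inl ((hxy.antisymm (e ▸ hgen x)).eq).symm
      · exact Or.inr e
    · have := scheme_finite_closure h.isLocallyClosed
      rw [hcl] at this
      exact this.subset (subset_univ _)
  tfae_have 3 → 1 := by
    rintro ⟨hdim, hfin⟩
    rw [← isClosed_compl_iff]
    have : ({genericPoint X} : Set X)ᶜ = ({x : X | IsClosed ({x} : Set X)} \ {genericPoint X}) := by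
      refine Subset.antisymm (fun y hy => ⟨?_, hy⟩) (fun y hy => hy.2)
      refine isClosed_singleton_of_no_proper fun z hz => ?_
      rcases (topologicalKrullDim_le_one_iff.1 hdim) _ y z (hgen y) hz with e | e
      · exact absurd e hy
      · exact e
    rw [this, ← biUnion_of_singleton ({x : X | IsClosed ({x} : Set X)} \ {genericPoint X})]
    exact (hfin.subset sdiff_subset).isClosed_biUnion fun y hy => hy.1
  tfae_finish

lemma jacobsonSpace_iff_no_immersion [IsLocallyNoetherian X] :
    JacobsonSpace X ↔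
      ∀ (R : CommRingCat.{u}) [IsDomain R] (i : Spec R ⟶ X) [IsImmersion i],
        ¬ (Finite (MaximalSpectrum R) ∧ ringKrullDim R = 1) := by
  constructor
  · rintro hJ R _ i _ ⟨hfin, hdim⟩
    have hR : IsLocallyNoetherian (Spec R) := LocallyOfFiniteType.isLocallyNoetherian i
    have : IsNoetherianRing R := isLocallyNoetherian_Spec.1 hR
    have h13 : ∃ f : R, f ≠ 0 ∧ IsField (Localization.Away f) :=
      (((goldman_tfae (B := R)).out 2 0 : (Finite (MaximalSpectrum R) ∧ ringKrullDim R ≤ 1) ↔ ∃ f : R, f ≠ 0 ∧ IsField (Localization.Away f))).1 ⟨hfin, hdim.le⟩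
    obtain ⟨f, hf, hF⟩ := h13
    have hopen := exists_isField_away_iff_isOpen.1 ⟨f, hf, hF⟩
    let η : (Spec R : Scheme.{u}) := (⟨⊥, Ideal.isPrime_bot⟩ : PrimeSpectrum R)
    have hlc : IsLocallyClosed ({i η} : Set X) := by
      rw [← image_singleton (f := ⇑i)]
      exact IsLocallyClosed.image (s := ({η} : Set (Spec R))) hopen.isLocallyClosed i.isEmbedding.isInducing
        i.isLocallyClosed_range
    have hc := isClosed_singleton_of_isLocallyClosed_singleton hlc
    have hc0 : IsClosed ({η} : Set (Spec R)) := by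
      have := hc.preimage i.isEmbedding.continuous
      rwa [← image_singleton (f := ⇑i), preimage_image_eq _ i.isEmbedding.injective] at this
    have hc' : IsClosed ({(⟨⊥, Ideal.isPrime_bot⟩ : PrimeSpectrum R)} : Set (PrimeSpectrum R)) := hc0
    rw [PrimeSpectrum.isClosed_singleton_iff_isMaximal] at hc'
    have hne : ¬ IsField R := fun hh => by
      rw [ringKrullDim_eq_zero_of_isField hh] at hdim
      exact zero_ne_one hdim
    exact Ring.ne_bot_of_isMaximal_of_not_isField hc' hne rfl
  · intro h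
    rw [jacobsonSpace_iff_locallyClosed]
    intro Z hne hZ
    obtain ⟨z, hz, hzlc⟩ := exists_mem_isLocallyClosed_singleton hZ hne
    refine ⟨z, hz, isClosed_singleton_of_no_proper fun y hy => by_contra fun hne => ?_⟩
    obtain ⟨_, ⟨U, hU, rfl⟩, hyU, -⟩ :=
      X.isBasis_affineOpens.exists_subset_of_mem_open (mem_univ y) isOpen_univ
    have := IsLocallyNoetherian.component_noetherian ⟨U, hU⟩
    have hzU : z ∈ (U : Set X) := hy.mem_open U.2 hyU
    rw [← hU.range_fromSpec] at hzU hyU
    obtain ⟨a, rfl⟩ := hzU; obtain ⟨b, rfl⟩ := hyU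
    have := hU.isOpenImmersion_fromSpec
    have hi := hU.fromSpec.isOpenEmbedding
    have ha : IsLocallyClosed ({a} : Set (Spec Γ(X, U))) := by
      have := hzlc.preimage hi.continuous
      rwa [← image_singleton (f := hU.fromSpec), preimage_image_eq _ hi.injective] at this
    let a' : PrimeSpectrum Γ(X, U) := a
    obtain ⟨-, hdim, hfin⟩ := finite_closure_of_isLocallyClosed_singleton (p := a') ha
    have hab : a' ⤳ b := hi.isInducing.specializes_iff.1 hy
    have hamax : ¬ a'.asIdeal.IsMaximal := fun hm => hne (congrArg _ (PrimeSpectrum.ext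
      (hm.eq_of_le (b : PrimeSpectrum Γ(X, U)).2.ne_top
        ((PrimeSpectrum.le_iff_specializes _ _).2 hab)).symm))
    have h13 : ∃ f : Γ(X, U) ⧸ a'.asIdeal, f ≠ 0 ∧ IsField (Localization.Away f) :=
      (((goldman_tfae (B := Γ(X, U) ⧸ a'.asIdeal)).out 2 0 : (Finite (MaximalSpectrum (Γ(X, U) ⧸ a'.asIdeal)) ∧ _) ↔ _)).1 ⟨hfin, hdim⟩
    have h1 := (away_isField_iff_dim_one a'.asIdeal).1 ⟨hamax, h13⟩
    have : IsClosedImmersion (Spec.map (CommRingCat.ofHom (Ideal.Quotient.mk a'.asIdeal))) :=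
      IsClosedImmersion.spec_of_surjective _ Ideal.Quotient.mk_surjective
    exact h (CommRingCat.of (Γ(X, U) ⧸ a'.asIdeal))
      (Spec.map (CommRingCat.ofHom (Ideal.Quotient.mk a'.asIdeal)) ≫ hU.fromSpec) h1

end Groth.Agent.EGA43Top
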