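import Groth.Agent.Lib.EGA43Top.OpenCriterion
import Groth.Agent.Lib.DVRVal.AffineSpace

/-!
# Universal openness is tested on affine spaces, and on dominance of components
-/

universe u

set_option linter.style.haveILetI false
set_option backward.isDefEq.respectTransparency false

open CategoryTheory CategoryTheory.Limits AlgebraicGeometry Topology TopologicalSpace

namespace Groth.Agent.EGA43Top

variable {X Y : Scheme.{u}}

/-- Openness passes to the base change along an immersion. -/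
theorem isOpenMap_of_isImmersion {P T : Scheme.{u}} (f : X ⟶ Y) (g : T ⟶ Y) {a : P ⟶ X} {b : P ⟶ T}
    (h : IsPullback a b f g) [IsImmersion g] (hf : IsOpenMap f) : IsOpenMap b := by
  haveI : IsImmersion a := MorphismProperty.of_isPullback h.flip inferInstance
  intro U hU
  obtain ⟨W, hW, rfl⟩ := a.isEmbedding.isInducing.isOpen_iff.mp hU
  have : b '' (a ⁻¹' W) = g ⁻¹' (f '' W) := by
    ext t
    constructor
    · rintro ⟨c, hc, rfl⟩
      exact ⟨a c, hc, congrArg (fun φ : P ⟶ Y => φ c) h.w⟩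
    · rintro ⟨x, hx, e⟩
      obtain ⟨q, rfl, rfl⟩ := Scheme.exists_preimage_of_isPullback h x t e
      exact ⟨q, hx, rfl⟩
  rw [this]
  exact (hf W hW).preimage g.continuous

/-- An affine piece of a morphism of finite type embeds in an affine space, compatibly with pullbacks. -/
theorem exists_affineSpace_piece (f : X ⟶ Y) {T : Scheme.{u}} (g : T ⟶ Y) [LocallyOfFiniteType g] (t : T) :
    ∃ (n : ℕ) (V : T.Opens) (_ : IsAffineOpen V) (a : (V : Scheme.{u}) ⟶ 𝔸(ULift.{u} (Fin n); Y)),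
      t ∈ V ∧ IsImmersion a ∧ a ≫ (𝔸(ULift.{u} (Fin n); Y) ↘ Y) = V.ι ≫ g ∧
      ∃ L : (↑(pullback.snd f g ⁻¹ᵁ V) : Scheme.{u}) ⟶ pullback f (𝔸(ULift.{u} (Fin n); Y) ↘ Y),
        IsPullback L (pullback.snd f g ∣_ V) (pullback.snd f (𝔸(ULift.{u} (Fin n); Y) ↘ Y)) a ∧
        L ≫ pullback.fst f _ = (pullback.snd f g ⁻¹ᵁ V).ι ≫ pullback.fst f g := by
  obtain ⟨U, hU, htU, -⟩ := exists_isAffineOpen_mem_and_subset (X := Y) (x := g t) (U := ⊤) trivial
  obtain ⟨V, hV, htV, hVU⟩ := exists_isAffineOpen_mem_and_subset (X := T) (x := t) (U := g ⁻¹ᵁ U) htU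
  letI : Algebra Γ(Y, U) Γ(T, V) := (g.appLE U V hVU).hom.toAlgebra
  haveI : Algebra.FiniteType Γ(Y, U) Γ(T, V) := LocallyOfFiniteType.finiteType_appLE (f := g) hU hV hVU
  obtain ⟨n, a₀, ha, hover⟩ := DVRVal.exists_immersion_affineSpace (B := Γ(T, V)) hU.fromSpec
  haveI := ha
  have hk : DVRVal.baseMap Γ(Y, U) Γ(T, V) hU.fromSpec = hV.fromSpec ≫ g :=
    IsAffineOpen.SpecMap_appLE_fromSpec g hU hV hVU
  let a : (V : Scheme.{u}) ⟶ 𝔸(ULift.{u} (Fin n); Y) := hV.isoSpec.hom ≫ a₀
  have haY : a ≫ (𝔸(ULift.{u} (Fin n); Y) ↘ Y) = V.ι ≫ g := by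
    rw [Category.assoc, hover, hk, ← Category.assoc, IsAffineOpen.isoSpec_hom_fromSpec]
  refine ⟨n, V, hV, a, htV, inferInstance, haY, ?_⟩
  have hbig : IsPullback ((pullback.snd f g ⁻¹ᵁ V).ι ≫ pullback.fst f g) (pullback.snd f g ∣_ V) f
      (a ≫ (𝔸(ULift.{u} (Fin n); Y) ↘ Y)) := by
    rw [haY]
    exact (isPullback_morphismRestrict (pullback.snd f g) V).flip.paste_horiz (IsPullback.of_hasPullback f g)
  refine ⟨pullback.lift _ (pullback.snd f g ∣_ V ≫ a) (hbig.w.trans (Category.assoc _ _ _).symm), ?_,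
    pullback.lift_fst _ _ _⟩
  exact IsPullback.of_right (by rw [pullback.lift_fst]; exact hbig) (pullback.lift_snd _ _ _)
    (IsPullback.of_hasPullback f _)

/-- A morphism whose base changes to all affine spaces over the target are open is universally open. -/
theorem universallyOpen_of_affineSpace (f : X ⟶ Y)
    (H : ∀ n : ℕ, IsOpenMap (pullback.snd f (𝔸(ULift.{u} (Fin n); Y) ↘ Y))) : UniversallyOpen f := by
  rw [universallyOpen_iff_forall_isUnivOpenAt]
  refine fun x => isUnivOpenAt_of_finiteType f x fun T g hg x' _ N hN => ?_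
  obtain ⟨n, V, -, a, hV, ha, -, L, hL, -⟩ := exists_affineSpace_piece f g (pullback.snd f g x')
  have hb := isOpenMap_of_isImmersion _ a hL (H n)
  have hN' := hb.image_mem_nhds ((pullback.snd f g ⁻¹ᵁ V).ι.continuous.continuousAt.preimage_mem_nhds
    (x := (⟨x', hV⟩ : (↑(pullback.snd f g ⁻¹ᵁ V) : Scheme.{u}))) hN)
  have e : V.ι ((pullback.snd f g ∣_ V) ⟨x', hV⟩) = pullback.snd f g x' :=
    congrArg (fun φ : _ ⟶ T => φ (⟨x', hV⟩ : (↑(pullback.snd f g ⁻¹ᵁ V) : Scheme.{u})))
      (morphismRestrict_ι (pullback.snd f g) V)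
  refine Filter.mem_of_superset (e ▸ V.ι.isOpenEmbedding.isOpenMap.image_mem_nhds hN') ?_
  rintro _ ⟨_, ⟨c, hc, rfl⟩, rfl⟩
  exact ⟨_, hc, (congrArg (fun φ : _ ⟶ T => φ c) (morphismRestrict_ι (pullback.snd f g) V)).symm⟩

/-- Openness of one base change along an open surjection. -/
theorem isOpenMap_of_open_surjective (f : X ⟶ Y) {T : Scheme.{u}} (p : T ⟶ Y) [Surjective p]
    (hp : IsOpenMap p.base) (h : IsOpenMap (pullback.snd f p)) : IsOpenMap f := by
  intro U hU
  have : f '' U = p '' (pullback.snd f p '' (pullback.fst f p ⁻¹' U)) := by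
    ext y
    constructor
    · rintro ⟨x, hx, rfl⟩
      obtain ⟨t, ht⟩ := p.surjective (f x)
      obtain ⟨q, rfl, rfl⟩ := Scheme.Pullback.exists_preimage_pullback (f := f) (g := p) x t ht.symm
      exact ⟨_, ⟨q, hx, rfl⟩, ht⟩
    · rintro ⟨_, ⟨q, hq, rfl⟩, rfl⟩
      exact ⟨_, hq, congrArg (fun φ : _ ⟶ Y => φ q) pullback.condition⟩
  rw [this]
  exact hp _ (h _ (hU.preimage (pullback.fst f p).continuous))

/-- Dominance of all components after irreducible base changes of finite type gives universal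
openness. -/
theorem universallyOpen_of_components_dominate (f : X ⟶ Y) [LocallyOfFinitePresentation f]
    (h : ∀ (Y' : Scheme.{u}) (g : Y' ⟶ Y) [IrreducibleSpace Y'] [LocallyOfFiniteType g] [QuasiCompact g],
      ∀ Z ∈ irreducibleComponents (↥(pullback f g) : Type u), Dense ((pullback.snd f g).base '' Z)) :
    UniversallyOpen f := by
  rw [universallyOpen_iff_forall_isUnivOpenAt]
  refine fun x => isUnivOpenAt_of_finiteType f x fun T g hg x' _ => isOpenAt_of_liftsAt fun t'' ht => ?_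
  obtain ⟨n, V, -, a, hV, ha, haY, L, hL, -⟩ := exists_affineSpace_piece f g (pullback.snd f g x')
  let A := 𝔸(ULift.{u} (Fin n); Y)
  let v : (V : Scheme.{u}) := ⟨t'', ht.mem_open V.2 hV⟩
  let C : Closeds A := ⟨closure {a v}, isClosed_closure⟩
  let I := Scheme.IdealSheafData.vanishingIdeal C
  let i : I.subscheme ⟶ A := I.subschemeι
  have hi : Set.range i = closure {a v} := by
    rw [Scheme.IdealSheafData.range_subschemeι, Scheme.IdealSheafData.coe_support_vanishingIdeal]
    rfl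
  obtain ⟨η, hη⟩ : a v ∈ Set.range i := hi ▸ subset_closure rfl
  have hηgen : IsGenericPoint η (Set.univ : Set I.subscheme) := by
    rw [IsGenericPoint, i.isEmbedding.closure_eq_preimage_closure_image, Set.image_singleton, hη, ← hi,
      Set.preimage_range]
  haveI : IrreducibleSpace I.subscheme := by
    rw [irreducibleSpace_def]
    show IsIrreducible (Set.univ : Set I.subscheme)
    exact hηgen.def ▸ isIrreducible_singleton.closure
  have hstep := h I.subscheme (i ≫ (A ↘ Y))
  let p : (↑(pullback.snd f g ⁻¹ᵁ V) : Scheme.{u}) := ⟨x', hV⟩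
  obtain ⟨w, hw⟩ : a ((pullback.snd f g ∣_ V) p) ∈ Set.range i := by
    rw [hi, ← specializes_iff_mem_closure]
    exact (V.ι.isEmbedding.isInducing.specializes_iff.1
      (show V.ι v ⤳ V.ι ((pullback.snd f g ∣_ V) p) from
        (congrArg (fun φ : _ ⟶ T => φ p) (morphismRestrict_ι (pullback.snd f g) V)).symm ▸ ht)).map a.continuous
  have hsq : IsPullback (pullback.fst (pullback.snd f (A ↘ Y)) i ≫ pullback.fst f (A ↘ Y))
      (pullback.snd (pullback.snd f (A ↘ Y)) i) f (i ≫ (A ↘ Y)) :=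
    (IsPullback.of_hasPullback _ _).paste_horiz (IsPullback.of_hasPullback f _)
  let e := hsq.isoPullback
  obtain ⟨q, hq1, hq2⟩ := Scheme.Pullback.exists_preimage_pullback
    (f := pullback.snd f (A ↘ Y)) (g := i) (L p) w (by
      rw [hw, ← Scheme.Hom.comp_apply, hL.w, Scheme.Hom.comp_apply])
  obtain ⟨ζ, hζ⟩ := QuasiSober.sober (isIrreducible_irreducibleComponent (x := e.hom q))
    isClosed_irreducibleComponent
  have hd := hstep _ (irreducibleComponent_mem_irreducibleComponents (e.hom q))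
  obtain ⟨ζ', rfl⟩ : ∃ r, e.hom r = ζ := e.hom.homeomorph.surjective ζ
  have he2 : pullback.snd f (i ≫ (A ↘ Y)) (e.hom ζ') = pullback.snd (pullback.snd f (A ↘ Y)) i ζ' := by
    rw [← Scheme.Hom.comp_apply, hsq.isoPullback_hom_snd]
  have hgen : pullback.snd (pullback.snd f (A ↘ Y)) i ζ' ⤳ η := by
    rw [← he2, specializes_iff_mem_closure]
    refine closure_minimal ?_ isClosed_closure (hd η)
    · rintro _ ⟨z, hz, rfl⟩
      exact ((hζ.specializes hz).map (pullback.snd f (i ≫ (A ↘ Y))).continuous).mem_closure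
  have hζη : pullback.snd (pullback.snd f (A ↘ Y)) i ζ' = η :=
    (hgen.antisymm (hηgen.specializes (Set.mem_univ _))).eq
  have hqζ : ζ' ⤳ q :=
    e.hom.isOpenEmbedding.isInducing.specializes_iff.1 (hζ.specializes mem_irreducibleComponent)
  have hz : pullback.snd f (A ↘ Y) (pullback.fst (pullback.snd f (A ↘ Y)) i ζ') = a v := by
    rw [← Scheme.Hom.comp_apply, pullback.condition, Scheme.Hom.comp_apply, hζη, hη]
  obtain ⟨r, hr1, hr2⟩ := Scheme.exists_preimage_of_isPullback hL _ v hz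
  haveI : IsImmersion L := MorphismProperty.of_isPullback hL.flip ha
  have hrp : r ⤳ p := by
    rw [← L.isEmbedding.isInducing.specializes_iff, hr1, ← hq1]
    exact hqζ.map (pullback.fst (pullback.snd f (A ↘ Y)) i).continuous
  refine ⟨r.1, hrp.map (pullback.snd f g ⁻¹ᵁ V).ι.continuous, ?_⟩
  have := congrArg V.ι hr2
  rwa [← Scheme.Hom.comp_apply, morphismRestrict_ι] at this

end Groth.Agent.EGA43Top
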