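import Groth.Agent.Lib.EGA43Top.OpenCriterion
import Groth.Agent.Lib.DVRVal.Basic
import Mathlib.RingTheory.DiscreteValuationRing.Basic

/-!
# The discrete valuative criterion of universal openness
-/

universe u

set_option linter.style.haveILetI false
set_option backward.isDefEq.respectTransparency false

open CategoryTheory CategoryTheory.Limits AlgebraicGeometry Topology TopologicalSpace IsLocalRing

namespace Groth.Agent.EGA43Top

variable (A : Type u) [CommRing A] [IsDomain A] [IsDiscreteValuationRing A]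

theorem bot_ne_closedPoint : (⟨⊥, Ideal.isPrime_bot⟩ : PrimeSpectrum A) ≠ closedPoint A := fun h =>
  IsDiscreteValuationRing.not_a_field A (congrArg PrimeSpectrum.asIdeal h).symm

theorem eq_bot_of_ne_closedPoint {p : PrimeSpectrum A} (h : p ≠ closedPoint A) : p = ⟨⊥, Ideal.isPrime_bot⟩ :=
  PrimeSpectrum.ext (by_contra fun hb => h (PrimeSpectrum.ext
    (eq_maximalIdeal (Ideal.IsPrime.isMaximal p.isPrime hb))))

theorem bot_specializes (p : PrimeSpectrum A) : (⟨⊥, Ideal.isPrime_bot⟩ : PrimeSpectrum A) ⤳ p :=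
  (PrimeSpectrum.le_iff_specializes _ p).1 bot_le

theorem isOpen_singleton_bot : IsOpen ({⟨⊥, Ideal.isPrime_bot⟩} : Set (PrimeSpectrum A)) := by
  rw [show ({⟨⊥, Ideal.isPrime_bot⟩} : Set (PrimeSpectrum A)) = {closedPoint A}ᶜ from Set.ext fun p =>
    ⟨fun hp => hp ▸ bot_ne_closedPoint A, fun hp => eq_bot_of_ne_closedPoint A hp⟩, isOpen_compl_iff]
  exact (PrimeSpectrum.isClosed_singleton_iff_isMaximal _).2 (IsLocalRing.maximalIdeal.isMaximal A)

/-- A subset of the spectrum of a discrete valuation ring is dense iff it contains the generic point. -/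
theorem dense_iff_bot_mem (T : Set (PrimeSpectrum A)) :
    Dense T ↔ (⟨⊥, Ideal.isPrime_bot⟩ : PrimeSpectrum A) ∈ T := by
  refine ⟨fun h => ?_, fun h p => ?_⟩
  · obtain ⟨q, hq, hqT⟩ := mem_closure_iff.1 (h ⟨⊥, Ideal.isPrime_bot⟩) _ (isOpen_singleton_bot A) rfl
    rwa [← show q = ⟨⊥, Ideal.isPrime_bot⟩ from hq]
  · exact closure_mono (Set.singleton_subset_iff.2 h) (bot_specializes A p).mem_closure

variable {A}

/-- Universal openness at a point gives lifting of the generic point of any discrete valuation ring. -/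
theorem exists_generization_of_isUnivOpenAt {X Y : Scheme.{u}} {f : X ⟶ Y} {x : X}
    (h : EGA43.IsUnivOpenAt f x) (g : Spec (CommRingCat.of A) ⟶ Y) (x' : ↥(pullback f g))
    (hx : pullback.fst f g x' = x) :
    ∃ z', z' ⤳ x' ∧ pullback.snd f g z' = (⟨⊥, Ideal.isPrime_bot⟩ : PrimeSpectrum A) :=
  liftsAt_of_isOpenAt (h _ g x' hx) _ (bot_specializes A _)

/-- The discrete valuative criterion of universal openness at a point. -/
theorem isUnivOpenAt_of_dvr {X Y : Scheme.{u}} [IsLocallyNoetherian Y] (f : X ⟶ Y) [LocallyOfFiniteType f]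
    (x : X)
    (H : ∀ (A : Type u) [CommRing A] [IsDomain A] [IsDiscreteValuationRing A]
        (g : Spec (CommRingCat.of A) ⟶ Y), g (closedPoint A) = f x →
        ∀ x' : ↥(pullback f g), pullback.fst f g x' = x → pullback.snd f g x' = closedPoint A →
          ∃ z' : ↥(pullback f g), z' ⤳ x' ∧ pullback.snd f g z' ≠ closedPoint A) :
    EGA43.IsUnivOpenAt f x := by
  refine isUnivOpenAt_of_finiteType f x fun T g hg x' hx' => ?_
  haveI : IsLocallyNoetherian T := LocallyOfFiniteType.isLocallyNoetherian g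
  haveI : LocallyOfFiniteType (pullback.snd f g) := MorphismProperty.pullback_snd _ _ inferInstance
  refine isOpenAt_of_liftsAt fun t'' ht => ?_
  by_cases hne : pullback.snd f g x' = t''
  · exact ⟨x', specializes_rfl, hne⟩
  obtain ⟨A, h, hA, hcl, hgen⟩ := DVRVal.exists_dvr_specializes (𝟙 T) t'' (pullback.snd f g x') ht hne
  haveI := hA
  have hsq : IsPullback (pullback.fst (pullback.snd f g) h ≫ pullback.fst f g)
      (pullback.snd (pullback.snd f g) h) f (h ≫ g) :=
    (IsPullback.of_hasPullback (pullback.snd f g) h).paste_horiz (IsPullback.of_hasPullback f g)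
  obtain ⟨p, hp1, hp2⟩ := Scheme.Pullback.exists_preimage_pullback (f := pullback.snd f g) (g := h) x'
    (closedPoint A) hcl.symm
  let e := hsq.isoPullback
  have hecl : g (h (closedPoint A)) = f x := by
    rw [hcl, ← hx', ← Scheme.Hom.comp_apply, ← Scheme.Hom.comp_apply, pullback.condition]
  have he1 : ∀ r, pullback.fst f (h ≫ g) (e.hom r) = pullback.fst f g (pullback.fst _ h r) := fun r => by
    rw [← Scheme.Hom.comp_apply, hsq.isoPullback_hom_fst, Scheme.Hom.comp_apply]
  have he2 : ∀ r, pullback.snd f (h ≫ g) (e.hom r) = pullback.snd _ h r := fun r => by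
    rw [← Scheme.Hom.comp_apply, hsq.isoPullback_hom_snd]
  obtain ⟨z', hz', hz'2⟩ := H A (h ≫ g) hecl (e.hom p) (by rw [he1, hp1, hx']) (by rw [he2, hp2])
  obtain ⟨r, rfl⟩ : ∃ r, e.hom r = z' := e.hom.homeomorph.surjective z'
  have hr : r ⤳ p := e.hom.isOpenEmbedding.isInducing.specializes_iff.1 hz'
  refine ⟨pullback.fst _ h r, hp1 ▸ hr.map (pullback.fst _ h).continuous, ?_⟩
  rw [← Scheme.Hom.comp_apply, pullback.condition, Scheme.Hom.comp_apply,
    eq_bot_of_ne_closedPoint A (p := pullback.snd _ h r) (he2 r ▸ hz'2)]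
  have h1 := congrArg (fun φ : _ ⟶ T => φ (closedPoint (T.residueField t''))) hgen
  simp only [Scheme.Hom.comp_apply] at h1
  replace h1 : h (Spec.map (CommRingCat.ofHom A.subtype) (closedPoint (T.residueField t''))) = t'' :=
    h1.trans (Scheme.fromSpecResidueField_apply _ _)
  refine Eq.trans (congrArg h (PrimeSpectrum.ext ?_)) h1
  show ⊥ = Ideal.comap A.subtype (maximalIdeal _)
  rw [isField_iff_maximalIdeal_eq.mp (Field.toIsField _), ← RingHom.ker_eq_comap_bot,
    (RingHom.injective_iff_ker_eq_bot _).1 Subtype.val_injective]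

/-- Universal openness along a fibre and dominance of the components after base change to
discrete valuation rings. -/
theorem forall_isUnivOpenAt_iff_dense {X Y : Scheme.{u}} [IsLocallyNoetherian Y] (f : X ⟶ Y)
    [LocallyOfFiniteType f] (y : Y) :
    (∀ x : X, f x = y → EGA43.IsUnivOpenAt f x) ↔
      ∀ (A : Type u) [CommRing A] [IsDomain A] [IsDiscreteValuationRing A] (g : Spec (CommRingCat.of A) ⟶ Y),
        g (closedPoint A) = y →
        ∀ Z ∈ irreducibleComponents (↥(pullback f g) : Type u), Dense ((pullback.snd f g).base '' Z) := by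
  refine ⟨fun h A _ _ _ g hg Z hZ => ?_, fun h x hx => isUnivOpenAt_of_dvr f x fun A _ _ _ g hg x' _ _ => ?_⟩
  · obtain ⟨ζ, hζ⟩ := QuasiSober.sober hZ.1 (isClosed_of_mem_irreducibleComponents Z hZ)
    rw [dense_iff_bot_mem]
    refine ⟨ζ, hζ.mem, ?_⟩
    by_contra hb
    have hζc : pullback.snd f g ζ = closedPoint A := by_contra fun hc => hb (eq_bot_of_ne_closedPoint A hc)
    have hfx : f (pullback.fst f g ζ) = y := by
      rw [← Scheme.Hom.comp_apply, pullback.condition, Scheme.Hom.comp_apply, hζc, hg]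
    obtain ⟨z', hz', hz'b⟩ := exists_generization_of_isUnivOpenAt (h _ hfx) g ζ rfl
    have hle : Z ⊆ closure {z'} := by rw [← hζ.def]; exact hz'.closure_subset
    have hz'Z : z' ∈ Z := hZ.2 isIrreducible_singleton.closure hle (subset_closure rfl)
    exact hb (((hζ.specializes hz'Z).antisymm hz').eq ▸ hz'b)
  · let Z := irreducibleComponent x'
    obtain ⟨w, hwZ, hw⟩ := (dense_iff_bot_mem A _).1
      (h A g (hg.trans hx) Z (irreducibleComponent_mem_irreducibleComponents x'))
    obtain ⟨ζ, hζ⟩ := QuasiSober.sober (isIrreducible_irreducibleComponent (x := x'))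
      isClosed_irreducibleComponent
    refine ⟨ζ, hζ.specializes mem_irreducibleComponent, fun hc => ?_⟩
    have h2 : closedPoint A ⤳ (pullback.snd f g).base w :=
      hc ▸ (hζ.specializes hwZ).map (pullback.snd f g).continuous
    exact bot_ne_closedPoint A ((hw ▸ h2 : closedPoint A ⤳ (⟨⊥, Ideal.isPrime_bot⟩ : PrimeSpectrum A)).antisymm
      (bot_specializes A _)).eq.symm

end Groth.Agent.EGA43Top
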