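import Groth.Agent.Lib.EGA43Top.OpenCriterion
import Groth.Agent.Lib.EGA43Top.FibreStalk
import Mathlib.RingTheory.Flat.TorsionFree
import Mathlib.RingTheory.DiscreteValuationRing.Basic
import Mathlib.RingTheory.Ideal.KrullsHeightTheorem
import Mathlib.RingTheory.Filtration
import Mathlib.AlgebraicGeometry.Noetherian

/-!
# Flatness over a discrete valuation ring from lifting of generizations and reduced fibres
-/

universe u

set_option linter.style.haveILetI false
set_option backward.isDefEq.respectTransparency false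

open CategoryTheory CategoryTheory.Limits AlgebraicGeometry Topology IsLocalRing

namespace Groth.Agent.EGA43Top

/-- Over a discrete valuation ring: a reduced special fibre all of whose components generize off it. -/
theorem flat_of_lifts {A B : Type u} [CommRing A] [IsDomain A] [IsDiscreteValuationRing A] [CommRing B]
    [IsLocalRing B] [IsNoetherianRing B] [Algebra A B] [IsLocalHom (algebraMap A B)]
    [_root_.IsReduced (B ⧸ (maximalIdeal A).map (algebraMap A B))]
    (h : ∀ P ∈ ((maximalIdeal A).map (algebraMap A B)).minimalPrimes,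
      ∃ q : Ideal B, q.IsPrime ∧ q ≤ P ∧ q.comap (algebraMap A B) ≠ maximalIdeal A) :
    Module.Flat A B := by
  obtain ⟨π, hπ⟩ := IsDiscreteValuationRing.exists_irreducible A
  set b := algebraMap A B π
  have hI : (maximalIdeal A).map (algebraMap A B) = Ideal.span {b} := by
    rw [hπ.maximalIdeal_eq, Ideal.map_span, Set.image_singleton]
  have hstep : ∀ (k : ℕ) (t : B), b ^ k * t = 0 → t ∈ (maximalIdeal A).map (algebraMap A B) := by
    intro k t ht
    have hrad : ((maximalIdeal A).map (algebraMap A B)).IsRadical :=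
      Ideal.isRadical_iff_quotient_reduced _ |>.2 ‹_›
    refine hrad ?_
    rw [← Ideal.sInf_minimalPrimes, Ideal.mem_sInf]
    intro P hP
    obtain ⟨q, hq, hqP, hqc⟩ := h P hP
    refine hqP ((hq.mem_or_mem (ht ▸ q.zero_mem : b ^ k * t ∈ q)).resolve_left fun hb => hqc ?_)
    refine le_antisymm (le_maximalIdeal (Ideal.IsPrime.comap (algebraMap A B) (hK := hq)).ne_top) ?_
    rw [hπ.maximalIdeal_eq, Ideal.span_le, Set.singleton_subset_iff]
    exact hq.mem_of_pow_mem k hb
  have hzero : ∀ t : B, b * t = 0 → t = 0 := by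
    intro t ht
    have hmem : ∀ n : ℕ, ∃ u, t = b ^ n * u := by
      intro n
      induction n with
      | zero => exact ⟨t, by simp⟩
      | succ n ih =>
        obtain ⟨u, hu⟩ := ih
        obtain ⟨v, hv⟩ := Ideal.mem_span_singleton.1 (hI ▸ hstep (n + 1) u (by
          rw [pow_succ', mul_assoc, ← hu, ht]))
        exact ⟨v, by rw [hu, hv, pow_succ, mul_assoc]⟩
    have hne : (maximalIdeal A).map (algebraMap A B) ≠ ⊤ := ne_of_lt (lt_of_le_of_lt
      (((local_hom_TFAE (algebraMap A B)).out 0 2).1 ‹_›) (lt_top_iff_ne_top.2 (maximalIdeal.isMaximal B).ne_top))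
    rw [← Ideal.mem_bot, ← Ideal.iInf_pow_eq_bot_of_isLocalRing _ hne, Ideal.mem_iInf]
    intro n
    obtain ⟨u, rfl⟩ := hmem n
    rw [hI, Ideal.span_singleton_pow]
    exact Ideal.mem_span_singleton.2 ⟨u, rfl⟩
  rw [IsDedekindDomain.flat_iff_torsion_eq_bot, eq_bot_iff]
  rintro t ⟨⟨a, ha⟩, hat⟩
  obtain ⟨k, u, rfl⟩ := IsDiscreteValuationRing.eq_unit_mul_pow_irreducible (nonZeroDivisors.ne_zero ha) hπ
  rw [Submonoid.mk_smul, Algebra.smul_def, map_mul, map_pow, mul_assoc,
    (u.isUnit.map (algebraMap A B)).mul_right_eq_zero] at hat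
  clear ha
  induction k with
  | zero => simpa using hat
  | succ k ih => exact ih (hzero _ (by rw [← mul_assoc, ← pow_succ']; exact hat))

/-- The statement for schemes. -/
theorem flat_stalkMap_of_liftsAt_dvr {X Y : Scheme.{u}} [IsLocallyNoetherian X] (f : X ⟶ Y) (x : X)
    [IsDomain (Y.presheaf.stalk (f x))] [IsDiscreteValuationRing (Y.presheaf.stalk (f x))]
    (hopen : ∀ z, z ⤳ x → f z = f x → (∀ z', z' ⤳ z → f z' = f x → z' = z) → LiftsAt f z)
    (hred : _root_.IsReduced ((f.fiber (f x)).presheaf.stalk (f.asFiber x))) :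
    (f.stalkMap x).hom.Flat := by
  letI := (f.stalkMap x).hom.toAlgebra
  let φ := (f.stalkMap x).hom
  haveI : IsLocalHom (algebraMap (Y.presheaf.stalk (f x)) (X.presheaf.stalk x)) :=
    inferInstanceAs (IsLocalHom φ)
  haveI : _root_.IsReduced (X.presheaf.stalk x ⧸ (maximalIdeal (Y.presheaf.stalk (f x))).map
      (algebraMap (Y.presheaf.stalk (f x)) (X.presheaf.stalk x))) := by
    have key : ∀ w : X, f.fiberι (f x) (f.asFiber x) = w →
        _root_.IsReduced (X.presheaf.stalk w ⧸ (maximalIdeal (Y.presheaf.stalk (f w))).map (f.stalkMap w).hom) := by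
      rintro w rfl
      obtain ⟨e, -⟩ := exists_ringEquiv_fiber_stalk f (f x) (f.asFiber x)
      exact isReduced_of_injective e.toRingHom e.injective
    exact key x (f.fiberι_asFiber x)
  refine flat_of_lifts fun P hP => ?_
  have hmem : ∀ q : PrimeSpectrum (X.presheaf.stalk x), f (X.fromSpecStalk x q) = f x ↔
      Ideal.map φ (maximalIdeal (Y.presheaf.stalk (f x))) ≤ q.asIdeal := fun q => by
    have hq : Y.fromSpecStalk (f x) (Spec.map (f.stalkMap x) q) = f (X.fromSpecStalk x q) := by
      rw [← Scheme.Hom.comp_apply, Scheme.SpecMap_stalkMap_fromSpecStalk, Scheme.Hom.comp_apply]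
    rw [← hq, Ideal.map_le_iff_le_comap]
    constructor
    · intro e
      exact (congrArg PrimeSpectrum.asIdeal ((Y.fromSpecStalk (f x)).isEmbedding.injective
        (e.trans Scheme.fromSpecStalk_closedPoint.symm))).ge
    · intro e
      rw [show Spec.map (f.stalkMap x) q = closedPoint _ from PrimeSpectrum.ext
        (le_antisymm (le_maximalIdeal (PrimeSpectrum.comap φ q).2.ne_top) e),
        Scheme.fromSpecStalk_closedPoint]
  let z := X.fromSpecStalk x (⟨P, hP.1.1⟩ : PrimeSpectrum (X.presheaf.stalk x))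
  have hzx : z ⤳ x := (Scheme.range_fromSpecStalk (X := X) (x := x)).le ⟨_, rfl⟩
  have hfz : f z = f x := (hmem _).2 hP.1.2
  have hmax : ∀ z', z' ⤳ z → f z' = f x → z' = z := by
    intro z' hz' hfz'
    obtain ⟨q, rfl⟩ : z' ∈ Set.range (X.fromSpecStalk x) := by
      rw [Scheme.range_fromSpecStalk]; exact hz'.trans hzx
    have hle : q.asIdeal ≤ P := (PrimeSpectrum.le_iff_specializes q ⟨P, hP.1.1⟩).2
      ((X.fromSpecStalk x).isEmbedding.isInducing.specializes_iff.1 hz')
    exact congrArg _ (PrimeSpectrum.ext (le_antisymm hle (hP.2 ⟨q.2, (hmem q).1 hfz'⟩ hle)))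
  let η : PrimeSpectrum (Y.presheaf.stalk (f x)) := ⟨⊥, Ideal.isPrime_bot⟩
  have hη : Y.fromSpecStalk (f x) η ⤳ f z := by
    rw [hfz]; exact (Scheme.range_fromSpecStalk (X := Y) (x := f x)).le ⟨η, rfl⟩
  obtain ⟨z', hz', hfz'⟩ := hopen z hzx hfz hmax _ hη
  obtain ⟨q, rfl⟩ : z' ∈ Set.range (X.fromSpecStalk x) := by
    rw [Scheme.range_fromSpecStalk]; exact hz'.trans hzx
  refine ⟨q.asIdeal, q.2, (PrimeSpectrum.le_iff_specializes q ⟨P, hP.1.1⟩).2
    ((X.fromSpecStalk x).isEmbedding.isInducing.specializes_iff.1 hz'), fun hc => ?_⟩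
  have : Spec.map (f.stalkMap x) q = η := by
    apply (Y.fromSpecStalk (f x)).isEmbedding.injective
    rw [← hfz', ← Scheme.Hom.comp_apply, Scheme.SpecMap_stalkMap_fromSpecStalk, Scheme.Hom.comp_apply]
  exact IsDiscreteValuationRing.not_a_field _ (hc.symm.trans (congrArg PrimeSpectrum.asIdeal this))

/-- The stalk of the spectrum of a discrete valuation ring at the closed point. -/
theorem isDiscreteValuationRing_stalk_closedPoint (A : Type u) [CommRing A] [IsDomain A]
    [IsDiscreteValuationRing A] (p : Spec (CommRingCat.of A)) (hp : p = closedPoint A) :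
    ∃ _ : IsDomain ((Spec (CommRingCat.of A)).presheaf.stalk p),
      IsDiscreteValuationRing ((Spec (CommRingCat.of A)).presheaf.stalk p) := by
  subst hp
  let S := (Spec.structureSheaf A).presheaf.stalk (closedPoint A)
  haveI : IsLocalization.AtPrime S (closedPoint A).asIdeal := inferInstance
  let e : A ≃ₐ[A] S := IsLocalization.atUnits A (closedPoint A).asIdeal.primeCompl (fun a ha =>
    not_not.1 fun hu => ha ((mem_maximalIdeal a).2 hu))
  haveI hd : IsDomain S := e.symm.toRingEquiv.injective.isDomain e.symm.toRingEquiv.toRingHom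
  haveI h2 : IsDiscreteValuationRing S :=
    IsDiscreteValuationRing.RingEquivClass.isDiscreteValuationRing e.toRingEquiv
  exact ⟨hd, h2⟩

end Groth.Agent.EGA43Top
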