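import Groth.Agent.Lib.EGA43Top.OpenCriterion
import Groth.Prelude.Def_FlatMod2
import Mathlib.RingTheory.Flat.Stability
import Mathlib.RingTheory.Flat.TorsionFree
import Mathlib.RingTheory.Support
import Mathlib.RingTheory.Spectrum.Prime.Module
import Mathlib.LinearAlgebra.TensorProduct.Quotient

/-!
# A finite module, flat over the base, gives lifting of generizations
-/

universe u

set_option linter.style.haveILetI false
set_option backward.isDefEq.respectTransparency false

open CategoryTheory CategoryTheory.Limits AlgebraicGeometry Topology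
open scoped TensorProduct

namespace Groth.Agent.EGA43Top

/-- Going down on the support of a finite module which is flat over the base. -/
theorem exists_prime_le_of_flat {A B N : Type u} [CommRing A] [CommRing B] [Algebra A B]
    [AddCommGroup N] [Module A N] [Module B N] [IsScalarTower A B N] [Module.Flat A N] [Module.Finite B N]
    (n : PrimeSpectrum B) (hn : n ∈ Module.support B N) (p : Ideal A) [p.IsPrime]
    (hp : p ≤ n.asIdeal.comap (algebraMap A B)) :
    ∃ q : PrimeSpectrum B, q.asIdeal ≤ n.asIdeal ∧ q.asIdeal.comap (algebraMap A B) = p := by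
  let ρ : B →ₐ[A] Module.End (A ⧸ p) ((A ⧸ p) ⊗[A] N) :=
    (Module.End.baseChangeHom A (A ⧸ p) N).comp (Algebra.lsmul A A N)
  let S : Submonoid B := Submonoid.map (algebraMap A B : A →* B) p.primeCompl ⊔ n.asIdeal.primeCompl
  let I : Ideal B := RingHom.ker ρ.toRingHom
  have hdisj : Disjoint (I : Set B) (S : Set B) := by
    rw [Set.disjoint_left]
    intro b hb hbS
    obtain ⟨_, ⟨a, ha, rfl⟩, c, hc, rfl⟩ := Submonoid.mem_sup.1 hbS
    have hc0 : ρ c = 0 := by
      ext x
      have h1 : ρ (algebraMap A B a * c) = 0 := hb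
      rw [map_mul, AlgHom.commutes] at h1
      have h2 := LinearMap.congr_fun h1 (1 ⊗ₜ x)
      rw [LinearMap.zero_apply, Module.End.mul_apply, Module.algebraMap_end_apply, ← algebraMap_smul (A ⧸ p),
        smul_eq_zero] at h2
      exact h2.resolve_left fun h => ha (Ideal.Quotient.eq_zero_iff_mem.1 h)
    refine hc ?_
    have hcn : ∀ x : N, c • x ∈ n.asIdeal • (⊤ : Submodule B N) := by
      intro x
      have h2 : ((1 : A ⧸ p) ⊗ₜ[A] (c • x)) = 0 := LinearMap.congr_fun hc0 (1 ⊗ₜ x)
      have h3 : c • x ∈ p • (⊤ : Submodule A N) := by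
        have h4 := congrArg (TensorProduct.quotTensorEquivQuotSMul N p) h2
        rw [map_zero, show (1 : A ⧸ p) = Ideal.Quotient.mk p 1 from rfl,
          TensorProduct.quotTensorEquivQuotSMul_mk_tmul, one_smul] at h4
        exact (Submodule.Quotient.mk_eq_zero _).1 h4
      refine Submodule.smul_induction_on h3 (fun a ha y _ => ?_) (fun y z hy hz => add_mem hy hz)
      rw [← algebraMap_smul B a y]
      exact Submodule.smul_mem_smul (hp ha) trivial
    have hs : n ∈ Module.support B (N ⧸ n.asIdeal • (⊤ : Submodule B N)) := by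
      rw [Module.support_quotient]
      exact ⟨hn, by simp [PrimeSpectrum.mem_zeroLocus]⟩
    rw [Module.support_eq_zeroLocus, PrimeSpectrum.mem_zeroLocus] at hs
    refine hs ?_
    rw [SetLike.mem_coe, Module.mem_annihilator]
    intro m
    obtain ⟨x, rfl⟩ := Submodule.Quotient.mk_surjective _ m
    rw [← Submodule.Quotient.mk_smul, Submodule.Quotient.mk_eq_zero]
    exact hcn x
  obtain ⟨q, hq, hIq, hqS⟩ := Ideal.exists_le_prime_disjoint I S hdisj
  refine ⟨⟨q, hq⟩, fun b hb => by_contra fun hbn =>
    Set.disjoint_left.1 hqS hb (Submonoid.mem_sup_right (show b ∈ n.asIdeal.primeCompl from hbn)),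
    le_antisymm (fun a ha => by_contra fun hap => Set.disjoint_left.1 hqS ha
      (Submonoid.mem_sup_left ⟨a, hap, rfl⟩)) fun a ha => hIq ?_⟩
  show ρ (algebraMap A B a) = 0
  rw [AlgHom.commutes]
  refine LinearMap.ext fun y => ?_
  rw [Module.algebraMap_end_apply, ← algebraMap_smul (A ⧸ p), Ideal.Quotient.algebraMap_eq,
    Ideal.Quotient.eq_zero_iff_mem.2 ha, zero_smul, LinearMap.zero_apply]

attribute [local instance] Algebra.TensorProduct.rightAlgebra in
/-- The same after an arbitrary base change of the base ring. -/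
theorem exists_prime_le_of_flat_baseChange {A A' B M : Type u} [CommRing A] [CommRing A'] [CommRing B]
    [Algebra A A'] [Algebra A B] [AddCommGroup M] [Module A M] [Module B M] [IsScalarTower A B M]
    [Module.Flat A M] [Module.Finite B M] (n : PrimeSpectrum (A' ⊗[A] B))
    (hn : (⟨n.asIdeal.comap Algebra.TensorProduct.includeRight.toRingHom, inferInstance⟩ : PrimeSpectrum B) ∈
      Module.support B M)
    (p : Ideal A') [p.IsPrime] (hp : p ≤ n.asIdeal.comap (algebraMap A' (A' ⊗[A] B))) :
    ∃ q : PrimeSpectrum (A' ⊗[A] B), q.asIdeal ≤ n.asIdeal ∧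
      q.asIdeal.comap (algebraMap A' (A' ⊗[A] B)) = p := by
  haveI : Module.Flat A' ((A' ⊗[A] B) ⊗[B] M) :=
    Module.Flat.of_linearEquiv (Algebra.IsPushout.cancelBaseChange A A' B (A' ⊗[A] B) M)
  refine exists_prime_le_of_flat (N := (A' ⊗[A] B) ⊗[B] M) n ?_ p hp
  let n₀ : PrimeSpectrum B :=
    ⟨n.asIdeal.comap Algebra.TensorProduct.includeRight.toRingHom, inferInstance⟩
  let ι := Ideal.ResidueField.mapₐ n₀.asIdeal n.asIdeal (Algebra.ofId B (A' ⊗[A] B)) rfl
  letI : Algebra n₀.asIdeal.ResidueField n.asIdeal.ResidueField := ι.toRingHom.toAlgebra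
  haveI : IsScalarTower B n₀.asIdeal.ResidueField n.asIdeal.ResidueField :=
    IsScalarTower.of_algebraMap_eq fun b => (ι.commutes b).symm
  rw [Module.mem_support_iff_nontrivial_residueField_tensorProduct]
  have h0 : Nontrivial (n₀.asIdeal.ResidueField ⊗[B] M) :=
    (Module.mem_support_iff_nontrivial_residueField_tensorProduct n₀).1 hn
  have h1 : Nontrivial (n.asIdeal.ResidueField ⊗[B] M) :=
    haveI : Module.Free n₀.asIdeal.ResidueField n.asIdeal.ResidueField := Module.Free.of_divisionRing _ _
    haveI : Module.FaithfullyFlat n₀.asIdeal.ResidueField n.asIdeal.ResidueField :=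
      Module.FaithfullyFlat.of_linearEquiv _ _ (Module.Free.chooseBasis _ _).repr
    haveI := Module.FaithfullyFlat.lTensor_nontrivial n₀.asIdeal.ResidueField n.asIdeal.ResidueField
      (n₀.asIdeal.ResidueField ⊗[B] M)
    (TensorProduct.AlgebraTensorModule.cancelBaseChange B n₀.asIdeal.ResidueField
      n₀.asIdeal.ResidueField n.asIdeal.ResidueField M).symm.toEquiv.nontrivial
  exact (TensorProduct.AlgebraTensorModule.cancelBaseChange B (A' ⊗[A] B)
    (A' ⊗[A] B) n.asIdeal.ResidueField M).toEquiv.nontrivial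

/-- The lifting in terms of points with values in rings over the source and the base change. -/
theorem exists_specializes_of_flat {X Y T : Scheme.{u}} (f : X ⟶ Y) (g : T ⟶ Y)
    {A B A' κ : CommRingCat.{u}} (hκ : IsField κ) (β : A ⟶ B) (α : A ⟶ A') (iX : Spec B ⟶ X) (iT : Spec A' ⟶ T)
    (hcomp : ∀ {W : Scheme.{u}} (u : W ⟶ Spec B) (v : W ⟶ Spec A'),
      u ≫ Spec.map β = v ≫ Spec.map α → u ≫ iX ≫ f = v ≫ iT ≫ g)
    (φ : B ⟶ κ) (ψ : A' ⟶ κ) (hφψ : β ≫ φ = α ≫ ψ) (x' : ↥(pullback f g))
    (k : Spec κ ⟶ pullback f g) (hk : ∀ q, k q = x')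
    (hkφ : Spec.map φ ≫ iX = k ≫ pullback.fst f g) (hkψ : Spec.map ψ ≫ iT = k ≫ pullback.snd f g)
    (M : Type u) [AddCommGroup M] [Module B M] [Module.Finite B M]
    (hflat : letI := Module.compHom M β.hom; Module.Flat A M)
    (hsupp : (⟨RingHom.ker φ.hom, (letI := hκ.isDomain; RingHom.ker_isPrime φ.hom)⟩ : PrimeSpectrum B) ∈
      Module.support B M)
    (p : PrimeSpectrum A') (hp : p.asIdeal ≤ RingHom.ker ψ.hom) :
    ∃ z, z ⤳ x' ∧ pullback.snd f g z = iT p := by
  letI := hκ.toField
  letI : Algebra A A' := α.hom.toAlgebra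
  letI : Algebra A B := β.hom.toAlgebra
  letI : Module A M := Module.compHom M β.hom
  haveI : IsScalarTower A B M := IsScalarTower.of_algebraMap_smul fun _ _ => rfl
  haveI : Module.Flat A M := hflat
  let l : A' ⟶ CommRingCat.of (A' ⊗[A] B) :=
    CommRingCat.ofHom Algebra.TensorProduct.includeLeftRingHom
  let r : B ⟶ CommRingCat.of (A' ⊗[A] B) :=
    CommRingCat.ofHom Algebra.TensorProduct.includeRight.toRingHom
  have hlr : β ≫ r = α ≫ l := by
    ext a
    exact (Algebra.TensorProduct.includeRight (R := A) (A := A') (B := B)).commutes a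
  let m : Spec (CommRingCat.of (A' ⊗[A] B)) ⟶ pullback f g :=
    pullback.lift (Spec.map r ≫ iX) (Spec.map l ≫ iT) (by
      rw [Category.assoc, Category.assoc]
      exact hcomp _ _ (by rw [← Spec.map_comp, ← Spec.map_comp, hlr]))
  letI : Algebra A κ := (β ≫ φ).hom.toAlgebra
  let e : A' ⊗[A] B →ₐ[A] κ := Algebra.TensorProduct.lift
    ⟨ψ.hom, fun a => (congrArg (fun k : A ⟶ κ => k.hom a) hφψ).symm⟩
    ⟨φ.hom, fun a => rfl⟩ (fun _ _ => Commute.all _ _)
  have hfg : ∀ a b, Commute (ψ.hom a) (φ.hom b) := fun _ _ => Commute.all _ _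
  have hel : l ≫ CommRingCat.ofHom e.toRingHom = ψ := by
    ext a
    exact (Algebra.TensorProduct.lift_tmul _ _ hfg a 1).trans (by simp)
  have her : r ≫ CommRingCat.ofHom e.toRingHom = φ := by
    ext a
    exact (Algebra.TensorProduct.lift_tmul _ _ hfg 1 a).trans (by simp)
  let n : PrimeSpectrum (A' ⊗[A] B) := ⟨RingHom.ker e.toRingHom, RingHom.ker_isPrime _⟩
  have hmn : m n = x' := by
    have h : Spec.map (CommRingCat.ofHom e.toRingHom) ≫ m = k := by
      apply pullback.hom_ext
      · rw [Category.assoc, pullback.lift_fst, ← Spec.map_comp_assoc, her, hkφ]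
      · rw [Category.assoc, pullback.lift_snd, ← Spec.map_comp_assoc, hel, hkψ]
    let o : PrimeSpectrum κ := ⟨⊥, Ideal.isPrime_bot⟩
    have : Spec.map (CommRingCat.ofHom e.toRingHom) o = n :=
      PrimeSpectrum.ext (RingHom.ker_eq_comap_bot _).symm
    rw [← this]
    exact (congrArg (fun k : _ ⟶ pullback f g => k o) h).trans (hk o)
  have hn : (⟨n.asIdeal.comap Algebra.TensorProduct.includeRight.toRingHom, (haveI := n.isPrime; Ideal.comap_isPrime _ _)⟩ :
      PrimeSpectrum B) ∈ Module.support B M := by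
    convert hsupp using 2
    show (RingHom.ker e.toRingHom).comap r.hom = RingHom.ker φ.hom
    rw [RingHom.comap_ker]
    exact congrArg (fun q : B ⟶ κ => RingHom.ker q.hom) her
  have hp' : p.asIdeal ≤ n.asIdeal.comap (algebraMap A' (A' ⊗[A] B)) := by
    refine hp.trans (le_of_eq ?_)
    show _ = (RingHom.ker e.toRingHom).comap l.hom
    rw [RingHom.comap_ker]
    exact congrArg (fun q : A' ⟶ κ => RingHom.ker q.hom) hel.symm
  obtain ⟨q, hqn, hqp⟩ := exists_prime_le_of_flat_baseChange (M := M) n hn p.asIdeal hp'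
  refine ⟨m q, hmn ▸ ((PrimeSpectrum.le_iff_specializes q n).1 hqn).map m.continuous, ?_⟩
  rw [← Scheme.Hom.comp_apply, pullback.lift_snd, Scheme.Hom.comp_apply]
  exact congrArg (fun z => iT z) (PrimeSpectrum.ext hqp)

/-- A finite stalk, nonzero and flat over the base, gives universal lifting of generizations. -/
theorem liftsAt_of_flat_stalk {X Y T : Scheme.{u}} (f : X ⟶ Y) (g : T ⟶ Y) (M : X.Modules)
    (x' : ↥(pullback f g)) [Module.Finite (X.presheaf.stalk (pullback.fst f g x')) (M.presheaf.stalk (pullback.fst f g x'))]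
    [Nontrivial (M.presheaf.stalk (pullback.fst f g x'))]
    (hM : FlatMod.IsFlatOverAt f M (pullback.fst f g x')) :
    LiftsAt (pullback.snd f g) x' := by
  intro t'' ht
  obtain ⟨p, hp⟩ : t'' ∈ Set.range (T.fromSpecStalk (pullback.snd f g x')) := by
    rw [Scheme.range_fromSpecStalk]; exact ht
  have hgt : g (pullback.snd f g x') = f (pullback.fst f g x') := by
    rw [← Scheme.Hom.comp_apply, ← Scheme.Hom.comp_apply, pullback.condition]
  let α := Y.presheaf.stalkSpecializes (specializes_of_eq hgt) ≫ g.stalkMap (pullback.snd f g x')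
  let β := f.stalkMap (pullback.fst f g x')
  have hα : Spec.map α ≫ Y.fromSpecStalk (f (pullback.fst f g x')) =
      T.fromSpecStalk (pullback.snd f g x') ≫ g := by
    rw [Spec.map_comp, Category.assoc, Scheme.SpecMap_stalkSpecializes_fromSpecStalk,
      Scheme.SpecMap_stalkMap_fromSpecStalk]
  have hβ : Spec.map β ≫ Y.fromSpecStalk (f (pullback.fst f g x')) =
      X.fromSpecStalk (pullback.fst f g x') ≫ f := Scheme.SpecMap_stalkMap_fromSpecStalk f
  let φ := (pullback.fst f g).stalkMap x' ≫ (pullback f g).residue x'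
  let ψ := (pullback.snd f g).stalkMap x' ≫ (pullback f g).residue x'
  have hφ : Spec.map φ ≫ X.fromSpecStalk (pullback.fst f g x') =
      (pullback f g).fromSpecResidueField x' ≫ pullback.fst f g := by
    rw [Spec.map_comp, Category.assoc, Scheme.SpecMap_stalkMap_fromSpecStalk, ← Category.assoc]
    rfl
  have hψ : Spec.map ψ ≫ T.fromSpecStalk (pullback.snd f g x') =
      (pullback f g).fromSpecResidueField x' ≫ pullback.snd f g := by
    rw [Spec.map_comp, Category.assoc, Scheme.SpecMap_stalkMap_fromSpecStalk, ← Category.assoc]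
    rfl
  have hφψ : β ≫ φ = α ≫ ψ := by
    apply Spec.map_injective
    rw [← cancel_mono (Y.fromSpecStalk (f (pullback.fst f g x'))), Spec.map_comp β φ, Spec.map_comp α ψ,
      Category.assoc, Category.assoc, hβ, hα, reassoc_of% hφ, reassoc_of% hψ, pullback.condition]
  refine Exists.elim (exists_specializes_of_flat f g
    (Field.toIsField ((pullback f g).residueField x')) β α (X.fromSpecStalk _) (T.fromSpecStalk _)
    (fun u v h => by rw [← hβ, ← hα]; exact (reassoc_of% h) _) φ ψ hφψ x'
    ((pullback f g).fromSpecResidueField x')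
    (fun q => Scheme.fromSpecResidueField_apply _ _) hφ hψ
    (M.presheaf.stalk (pullback.fst f g x')) hM ?_ p ?_)
    (fun z hz => ⟨z, hz.1, hz.2.trans hp⟩)
  · obtain ⟨q, hq⟩ := Module.nonempty_support_iff (R := X.presheaf.stalk (pullback.fst f g x'))
      |>.2 ‹Nontrivial (M.presheaf.stalk (pullback.fst f g x'))›
    refine Module.mem_support_mono ?_ hq
    show q.asIdeal ≤ RingHom.ker ((pullback f g).residue x' |>.hom.comp ((pullback.fst f g).stalkMap x').hom)
    rw [← RingHom.comap_ker, show RingHom.ker ((pullback f g).residue x').hom =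
      IsLocalRing.maximalIdeal _ from IsLocalRing.ker_residue, IsLocalRing.maximalIdeal_comap]
    exact IsLocalRing.le_maximalIdeal q.2.ne_top
  · show p.asIdeal ≤ RingHom.ker ((pullback f g).residue x' |>.hom.comp ((pullback.snd f g).stalkMap x').hom)
    rw [← RingHom.comap_ker, show RingHom.ker ((pullback f g).residue x').hom =
      IsLocalRing.maximalIdeal _ from IsLocalRing.ker_residue, IsLocalRing.maximalIdeal_comap]
    exact IsLocalRing.le_maximalIdeal p.2.ne_top

end Groth.Agent.EGA43Top
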