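import Mathlib.RingTheory.Ideal.KrullsHeightTheorem
import Mathlib.RingTheory.Jacobson.Ring
import Mathlib.RingTheory.Localization.Away.Basic
import Mathlib.RingTheory.Spectrum.Prime.Topology
import Mathlib.RingTheory.Algebraic.Integral
import Mathlib.RingTheory.FiniteType
import Mathlib.AlgebraicGeometry.Noetherian
import Mathlib.RingTheory.KrullDimension.Field
import Mathlib.RingTheory.KrullDimension.Zero

/-!
Domains `B` with some `B_f` a field, Jacobson criteria, locally closed points of Noetherian schemes.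
-/

universe u

open Set Topology

namespace Groth.Agent.EGA43Top

section Ring

variable {B : Type u} [CommRing B] [IsDomain B]

lemma isField_away_iff {f : B} (hf : f ≠ 0) :
    IsField (Localization.Away f) ↔ ∀ P : Ideal B, P.IsPrime → P ≠ ⊥ → f ∈ P := by
  constructor
  · intro h P hP hP0
    by_contra hfP
    have hd : Disjoint (Submonoid.powers f : Set B) P := (Ideal.disjoint_powers_iff_notMem f hP.isRadical).2 hfP
    have hQ := IsLocalization.isPrime_of_isPrime_disjoint (Submonoid.powers f) (Localization.Away f) P hP hd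
    let := h.toField
    rcases Ideal.eq_bot_or_top (P.map (algebraMap B (Localization.Away f))) with e | e
    · apply hP0
      rw [← IsLocalization.comap_map_of_isPrime_disjoint (Submonoid.powers f) (Localization.Away f) hP hd, e,
        eq_bot_iff]
      intro x hx
      rw [Ideal.mem_comap, Ideal.mem_bot] at hx
      exact IsLocalization.injective (Localization.Away f)
        (powers_le_nonZeroDivisors_of_noZeroDivisors hf) (by rw [hx, map_zero])
    · exact hQ.ne_top e
  · intro h
    have : IsDomain (Localization.Away f) :=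
      IsLocalization.isDomain_localization (powers_le_nonZeroDivisors_of_noZeroDivisors hf)
    by_contra hc
    obtain ⟨M, hM0, hM⟩ := Ring.not_isField_iff_exists_prime.1 hc
    have h0 : M.comap (algebraMap B (Localization.Away f)) ≠ ⊥ := fun e => hM0 (by
      rw [← IsLocalization.map_comap (Submonoid.powers f) (Localization.Away f) M]; exact (congrArg (Ideal.map _) e).trans Ideal.map_bot)
    exact hM.ne_top (Ideal.eq_top_of_isUnit_mem _ (h _ (hM.comap _) h0)
      (IsLocalization.Away.algebraMap_isUnit f))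

lemma exists_isField_away_iff_isOpen :
    (∃ f : B, f ≠ 0 ∧ IsField (Localization.Away f)) ↔
      IsOpen ({⟨⊥, Ideal.isPrime_bot⟩} : Set (PrimeSpectrum B)) := by
  constructor
  · rintro ⟨f, hf, h⟩
    convert (PrimeSpectrum.basicOpen f).2 using 1
    ext p
    refine ⟨fun hp => ?_, fun hp => ?_⟩
    · rw [mem_singleton_iff.1 hp]; simpa using hf
    · exact PrimeSpectrum.ext (by_contra fun hc => hp ((isField_away_iff hf).1 h p.asIdeal p.2 hc))
  · intro h
    obtain ⟨_, ⟨f, rfl⟩, hmem, hsub⟩ :=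
      PrimeSpectrum.isTopologicalBasis_basic_opens.exists_subset_of_mem_open (mem_singleton _) h
    have hf : f ≠ 0 := by simpa using hmem
    refine ⟨f, hf, (isField_away_iff hf).2 fun P hP hP0 => by_contra fun hfP => hP0 ?_⟩
    exact congrArg PrimeSpectrum.asIdeal (mem_singleton_iff.1 (hsub (show (⟨P, hP⟩ : PrimeSpectrum B) ∈ _ from hfP)))

/-- A Noetherian domain with finitely many height one primes has no primes of height two. -/
lemma isMax_of_finite [IsNoetherianRing B] {s : Set (Ideal B)} (hs : s.Finite)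
    (hsP : ∀ P ∈ s, P.IsPrime) (h : ∀ P : Ideal B, P.IsPrime → P ≠ ⊥ → P.height ≤ 1 → P ∈ s)
    {P Q : Ideal B} [P.IsPrime] [Q.IsPrime] (hP : P ≠ ⊥) (hPQ : P ≤ Q) : P = Q := by
  by_contra hne
  have hPpos : P.height ≠ 0 := by
    rwa [ne_eq, Ideal.height_eq_zero_iff_eq_bot]
  have hlt : P.height < Q.height :=
    Ideal.height_strict_mono_of_isPrime (lt_of_le_of_ne hPQ hne)
  have key : (Q : Set B) ⊆ ⋃ R ∈ {R ∈ s | R.height ≤ 1}, (R : Set B) := by
    intro x hx
    obtain ⟨R, hR, hRQ⟩ := Ideal.exists_minimalPrimes_le ((Ideal.span_singleton_le_iff_mem (I := Q)).2 hx)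
    have := hR.1.1
    have hR1 : R.height ≤ 1 := Ideal.height_le_one_of_isPrincipal_of_mem_minimalPrimes (Ideal.span {x}) R hR
    have hxR : x ∈ R := hR.1.2 (Ideal.mem_span_singleton_self x)
    by_cases hx0 : x = 0
    · obtain ⟨T, hT, hTP⟩ := Ideal.exists_minimalPrimes_le
        ((Ideal.span_singleton_le_iff_mem (I := P)).2 (Classical.choose_spec (Submodule.exists_mem_ne_zero_of_ne_bot hP)).1)
      have := hT.1.1
      refine mem_iUnion₂.2 ⟨T, ⟨h T inferInstance ?_ ?_, ?_⟩, hx0 ▸ T.zero_mem⟩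
      · exact fun e => (Classical.choose_spec (Submodule.exists_mem_ne_zero_of_ne_bot hP)).2 (by
          simpa [e] using hT.1.2 (Ideal.mem_span_singleton_self _))
      all_goals exact Ideal.height_le_one_of_isPrincipal_of_mem_minimalPrimes _ T hT
    · exact mem_iUnion₂.2 ⟨R, ⟨h R inferInstance (fun e => hx0 (by simpa [e] using hxR)) hR1, hR1⟩, hxR⟩
  obtain ⟨R, ⟨hR, hR1⟩, hQR⟩ :=
    (Ideal.subset_union_prime_finite (f := fun R : Ideal B => R) (hs.subset (sep_subset _ _)) ⊤ ⊤
      (fun i hi _ _ => hsP i hi.1)).1 key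
  have := hsP R hR
  have h2 : Q.height ≤ 1 := (Ideal.height_mono hQR).trans hR1
  exact not_lt.2 (ENat.one_le_iff_ne_zero.2 hPpos) (hlt.trans_le h2)

lemma goldman_tfae [IsNoetherianRing B] :
    [∃ f : B, f ≠ 0 ∧ IsField (Localization.Away f), Finite (PrimeSpectrum B),
      Finite (MaximalSpectrum B) ∧ ringKrullDim B ≤ 1].TFAE := by
  have dim : ringKrullDim B ≤ 1 ↔ ∀ P : Ideal B, P ≠ ⊥ → P.IsPrime → P.IsMaximal := by
    rw [← Ring.krullDimLE_one_iff_of_noZeroDivisors, Ring.krullDimLE_iff, Nat.cast_one]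
  tfae_have 1 → 2 := by
    rintro ⟨f, hf, h⟩
    have h' := (isField_away_iff hf).1 h
    have hfin := (Ideal.span {f}).finite_minimalPrimes_of_isNoetherianRing B
    have heq : ∀ P : Ideal B, P.IsPrime → P ≠ ⊥ → P ∈ (Ideal.span {f}).minimalPrimes := by
      intro P hP hP0
      obtain ⟨R, hR, hRP⟩ := Ideal.exists_minimalPrimes_le
        ((Ideal.span_singleton_le_iff_mem (I := P)).2 (h' P hP hP0))
      have := hR.1.1
      have hR0 : R ≠ ⊥ := fun e => hf (by simpa [e] using hR.1.2 (Ideal.mem_span_singleton_self f))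
      refine (isMax_of_finite hfin (fun i hi => hi.1.1) (fun T hT hT0 hT1 => ?_) hR0 hRP) ▸ hR
      obtain ⟨R', hR', hR'T⟩ := Ideal.exists_minimalPrimes_le
        ((Ideal.span_singleton_le_iff_mem (I := T)).2 (h' T hT hT0))
      have := hR'.1.1
      by_contra hTn
      have hlt : R' < T := lt_of_le_of_ne hR'T fun e => hTn (e ▸ hR')
      have h1 : R'.height < T.height := Ideal.height_strict_mono_of_isPrime hlt
      have h0 : R'.height ≠ 0 := by
        rw [ne_eq, Ideal.height_eq_zero_iff_eq_bot]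
        exact fun e => hf (by simpa [e] using hR'.1.2 (Ideal.mem_span_singleton_self f))
      exact not_lt.2 (ENat.one_le_iff_ne_zero.2 h0) (h1.trans_le hT1)
    refine Set.finite_univ_iff.1 (((hfin.insert ⊥).preimage
      (f := PrimeSpectrum.asIdeal) fun _ _ _ _ e => PrimeSpectrum.ext e).subset fun P _ => ?_)
    by_cases hP : P.asIdeal = ⊥
    · exact Or.inl hP
    · exact Or.inr (heq _ P.2 hP)
  tfae_have 2 → 3 := by
    intro h
    refine ⟨Finite.of_injective MaximalSpectrum.toPrimeSpectrum MaximalSpectrum.toPrimeSpectrum_injective, ?_⟩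
    rw [dim]
    intro P hP0 hP
    obtain ⟨M, hM, hPM⟩ := P.exists_le_maximal hP.ne_top
    have : M.IsPrime := hM.isPrime
    rw [isMax_of_finite (s := range (PrimeSpectrum.asIdeal (R := B))) (finite_range _)
      (by rintro _ ⟨q, rfl⟩; exact q.2) (fun T hT _ _ => ⟨⟨T, hT⟩, rfl⟩) hP0 hPM]
    exact hM
  tfae_have 3 → 1 := by
    rintro ⟨hmax, hdim⟩
    have := Fintype.ofFinite (MaximalSpectrum B)
    by_cases hB : IsField B
    · refine ⟨1, one_ne_zero, (isField_away_iff one_ne_zero).2 fun P hP hP0 => ?_⟩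
      let := hB.toField
      exact absurd ((Ideal.eq_bot_or_top P).resolve_right hP.ne_top) hP0
    · have hne : ∀ m : MaximalSpectrum B, m.asIdeal ≠ ⊥ :=
        fun m => Ring.ne_bot_of_isMaximal_of_not_isField m.2 hB
      choose g hg hg0 using fun m => Submodule.exists_mem_ne_zero_of_ne_bot (hne m)
      refine ⟨∏ m, g m, Finset.prod_ne_zero_iff.2 fun m _ => hg0 m,
        (isField_away_iff (Finset.prod_ne_zero_iff.2 fun m _ => hg0 m)).2 fun P hP hP0 => ?_⟩
      exact P.mem_of_dvd (Finset.dvd_prod_of_mem g (Finset.mem_univ ⟨P, dim.1 hdim P hP0 hP⟩)) (hg ⟨P, _⟩)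
  tfae_finish

end Ring

section Jacobson

variable {A : Type u} [CommRing A]

lemma quotient_away_field (h : ∀ (p : Ideal A) [p.IsPrime], ¬ p.IsMaximal → ∀ f : A ⧸ p, f ≠ 0 →
    ¬ IsField (Localization.Away f)) : IsJacobsonRing A := by
  rw [isJacobsonRing_iff_prime_eq]
  intro P hP
  refine le_antisymm (fun x hx => ?_) Ideal.le_jacobson
  by_contra hxP
  have hd : Disjoint (Submonoid.powers x : Set A) P := (Ideal.disjoint_powers_iff_notMem x hP.isRadical).2 hxP
  have hch : ∀ c ⊆ {I : Ideal A | Disjoint (Submonoid.powers x : Set A) I}, IsChain (· ≤ ·) c →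
      ∀ y ∈ c, ∃ ub ∈ {I : Ideal A | Disjoint (Submonoid.powers x : Set A) I}, ∀ z ∈ c, z ≤ ub := by
    intro c hc hchain y hy
    refine ⟨sSup c, Set.disjoint_left.2 fun z hz hz' => ?_, fun z hz => le_sSup hz⟩
    obtain ⟨I, hI, hzI⟩ := (Submodule.mem_sSup_of_directed ⟨y, hy⟩ hchain.directedOn).1 hz'
    exact Set.disjoint_left.1 (hc hI) hz hzI
  obtain ⟨q, hPq, hqm⟩ := zorn_le_nonempty₀ _ hch P hd
  have hq : q.IsPrime := Ideal.isPrime_of_maximally_disjoint q (Submonoid.powers x) (Disjoint.symm hqm.1)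
    fun J hJ hd' => hJ.not_ge (hqm.2 (Disjoint.symm hd') hJ.le)
  have hxq : x ∉ q := fun hh => Set.disjoint_left.1 hqm.1 (Submonoid.mem_powers x) hh
  have hx0 : Ideal.Quotient.mk q x ≠ 0 := by rwa [ne_eq, Ideal.Quotient.eq_zero_iff_mem]
  have hF : IsField (Localization.Away (Ideal.Quotient.mk q x)) := by
    rw [isField_away_iff hx0]
    intro R hR hR0
    by_contra hxR
    have : Disjoint (Submonoid.powers x : Set A) (R.comap (Ideal.Quotient.mk q) : Ideal A) :=
      (Ideal.disjoint_powers_iff_notMem x (hR.comap _).isRadical).2 hxR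
    have hle : q ≤ R.comap (Ideal.Quotient.mk q) := by
      intro z hz
      rw [Ideal.mem_comap, Ideal.Quotient.eq_zero_iff_mem.2 hz]
      exact R.zero_mem
    apply hR0
    rw [← Ideal.map_comap_of_surjective _ Ideal.Quotient.mk_surjective R, le_antisymm (hqm.2 this hle) hle,
      Ideal.map_quotient_self]
  by_cases hmax : q.IsMaximal
  · exact hxq (Ideal.mem_sInf.1 hx ⟨hPq, hmax⟩)
  · exact h q hmax _ hx0 hF

lemma jacobson_tfae :
    [IsJacobsonRing A,
      ∀ (p : Ideal A) [p.IsPrime], ¬ p.IsMaximal → ∀ f : A ⧸ p, f ≠ 0 → ¬ IsField (Localization.Away f),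
      ∀ (K : Type u) [Field K] [Algebra A K], Algebra.FiniteType A K → Module.Finite A K].TFAE := by
  tfae_have 1 → 3 := by
    intro h K _ _ hK
    exact finite_of_finite_type_of_isJacobsonRing A K
  tfae_have 3 → 2 := by
    intro h p _ hmax f hf hF
    let := hF.toField
    have h1 : Algebra.FiniteType (A ⧸ p) (Localization.Away f) := IsLocalization.finiteType_of_monoid_fg
      (Submonoid.powers f) (Localization.Away f)
    have h2 : Algebra.FiniteType A (Localization.Away f) := Algebra.FiniteType.trans (S := A ⧸ p) inferInstance h1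
    have := h (Localization.Away f) h2
    have hint : Algebra.IsIntegral (A ⧸ p) (Localization.Away f) := Algebra.IsIntegral.tower_top A
    refine hmax (Ideal.Quotient.maximal_of_isField _ (isField_of_isIntegral_of_isField
      (S := Localization.Away f) ?_ hF))
    exact IsLocalization.injective _ (powers_le_nonZeroDivisors_of_noZeroDivisors hf)
  tfae_have 2 → 1 := fun h => quotient_away_field h
  tfae_finish

lemma away_isField_iff_dim_one [IsNoetherianRing A] (p : Ideal A) [p.IsPrime] :
    (¬ p.IsMaximal ∧ ∃ f : A ⧸ p, f ≠ 0 ∧ IsField (Localization.Away f)) ↔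
      Finite (MaximalSpectrum (A ⧸ p)) ∧ ringKrullDim (A ⧸ p) = 1 := by
  have key : (∃ f : A ⧸ p, f ≠ 0 ∧ IsField (Localization.Away f)) ↔
      Finite (MaximalSpectrum (A ⧸ p)) ∧ ringKrullDim (A ⧸ p) ≤ 1 := (goldman_tfae (B := A ⧸ p)).out 0 2
  rw [key]
  constructor
  · rintro ⟨hmax, hfin, hdim⟩
    refine ⟨hfin, le_antisymm hdim ?_⟩
    by_contra hlt
    refine hmax (Ideal.Quotient.maximal_of_isField _ ?_)
    have : Ring.KrullDimLE 0 (A ⧸ p) := by
      rw [Ring.krullDimLE_iff]
      exact ENat.WithBot.lt_add_one_iff.1 (by simpa using not_le.1 hlt)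
    exact Ring.KrullDimLE.isField_of_isDomain
  · rintro ⟨hfin, hdim⟩
    refine ⟨fun hmax => ?_, hfin, hdim.le⟩
    have := ringKrullDim_eq_zero_of_isField ((Ideal.Quotient.maximal_ideal_iff_isField_quotient p).1 hmax)
    rw [this] at hdim
    exact zero_ne_one hdim

lemma isJacobsonRing_iff_no_semilocal [IsNoetherianRing A] :
    IsJacobsonRing A ↔
      ∀ (p : Ideal A) [p.IsPrime], ¬ (Finite (MaximalSpectrum (A ⧸ p)) ∧ ringKrullDim (A ⧸ p) = 1) := by
  have key : IsJacobsonRing A ↔ ∀ (p : Ideal A) [p.IsPrime], ¬ p.IsMaximal → ∀ f : A ⧸ p, f ≠ 0 →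
      ¬ IsField (Localization.Away f) := (jacobson_tfae (A := A)).out 0 1
  rw [key]
  refine forall_congr' fun p => forall_congr' fun _ => ?_
  rw [← away_isField_iff_dim_one p]
  push Not
  rfl

end Jacobson

end Groth.Agent.EGA43Top
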