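import Mathlib.Topology.LocallyClosed
import Mathlib.Topology.Constructible
import Mathlib.Topology.Sets.Closeds
import Mathlib.Topology.Sets.Opens
import Mathlib.Topology.NoetherianSpace
import Mathlib.Topology.JacobsonSpace

/-!
Quasi-homeomorphisms (inverse image is bijective on opens), quasi-constructible sets.
-/

universe u

open Set Topology TopologicalSpace

namespace Groth.Agent.EGA43Top

variable {X : Type u} {Y : Type u} [TopologicalSpace X] [TopologicalSpace Y]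

/-- finite union of locally closed sets -/
def IsQC (Z : Set X) : Prop :=
  ∃ T : Set (Set X), T.Finite ∧ (∀ t ∈ T, IsLocallyClosed t) ∧ Z = ⋃₀ T

/-- locally quasi-constructible -/
def IsLQC (Z : Set X) : Prop :=
  ∀ x : X, ∃ U : Set X, IsOpen U ∧ x ∈ U ∧ IsQC (U ∩ Z)

lemma IsQC.inter_lc {Z W : Set X} (hZ : IsQC Z) (hW : IsLocallyClosed W) : IsQC (W ∩ Z) := by
  obtain ⟨T, hT, hlc, rfl⟩ := hZ
  refine ⟨(W ∩ ·) '' T, hT.image _, ?_, ?_⟩
  · rintro _ ⟨t, ht, rfl⟩; exact hW.inter (hlc t ht)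
  · ext z; simp

lemma isQC_of_isLocallyClosed {W : Set X} (hW : IsLocallyClosed W) : IsQC W :=
  ⟨{W}, finite_singleton W, fun t ht => by rwa [mem_singleton_iff.1 ht], (sUnion_singleton W).symm⟩

lemma IsQC.preimage {Z : Set Y} (hZ : IsQC Z) {f : X → Y} (hf : Continuous f) :
    IsQC (f ⁻¹' Z) := by
  obtain ⟨T, hT, hlc, rfl⟩ := hZ
  refine ⟨(f ⁻¹' ·) '' T, hT.image _, ?_, ?_⟩
  · rintro _ ⟨t, ht, rfl⟩; exact (hlc t ht).preimage hf
  · rw [sUnion_image, preimage_sUnion]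

lemma IsQC.image_isLocallyClosed_embedding {f : X → Y} (hf : IsInducing f)
    (hr : IsLocallyClosed (range f)) {Z : Set X} (hZ : IsQC Z) : IsQC (f '' Z) := by
  obtain ⟨T, hT, hlc, rfl⟩ := hZ
  exact ⟨(f '' ·) '' T, hT.image _, by rintro _ ⟨t, ht, rfl⟩; exact (hlc t ht).image hf hr,
    by ext z; simp; tauto⟩

lemma IsQC.union {Z Z' : Set X} (hZ : IsQC Z) (hZ' : IsQC Z') : IsQC (Z ∪ Z') := by
  obtain ⟨T, hT, hlc, rfl⟩ := hZ
  obtain ⟨T', hT', hlc', rfl⟩ := hZ'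
  exact ⟨T ∪ T', hT.union hT', fun t ht => ht.elim (hlc t) (hlc' t), (sUnion_union T T').symm⟩

lemma IsQC.sUnion {S : Set (Set X)} (hS : S.Finite) (h : ∀ s ∈ S, IsQC s) : IsQC (⋃₀ S) := by
  induction S, hS using Set.Finite.induction_on with
  | empty => exact ⟨∅, finite_empty, by simp, rfl⟩
  | @insert a S _ _ ih =>
    rw [sUnion_insert]
    exact (h a (mem_insert _ _)).union (ih fun s hs => h s (mem_insert_of_mem _ hs))

lemma IsQC.isLQC {Z : Set X} (hZ : IsQC Z) : IsLQC Z := fun _ =>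
  ⟨univ, isOpen_univ, trivial, by simpa using hZ⟩

lemma isLQC_univ : IsLQC (univ : Set X) := (isQC_of_isLocallyClosed isOpen_univ.isLocallyClosed).isLQC

lemma IsLQC.inter_lc {Z W : Set X} (hZ : IsLQC Z) (hW : IsLocallyClosed W) : IsLQC (W ∩ Z) := by
  intro x
  obtain ⟨U, hU, hxU, hQ⟩ := hZ x
  exact ⟨U, hU, hxU, by rw [inter_left_comm]; exact hQ.inter_lc hW⟩

lemma IsLQC.inter_isOpen {Z U : Set X} (hZ : IsLQC Z) (hU : IsOpen U) : IsLQC (U ∩ Z) :=
  hZ.inter_lc hU.isLocallyClosed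

/-- a finite family of locally closed sets is "constant" on a locally closed nbhd-piece of y -/
lemma exists_lc_piece {T : Set (Set X)} (hT : T.Finite) (hlc : ∀ t ∈ T, IsLocallyClosed t) (y : X) :
    ∃ W : Set X, IsLocallyClosed W ∧ y ∈ W ∧ ∀ t ∈ T, (y ∈ t → W ⊆ t) ∧ (y ∉ t → Disjoint W t) := by
  induction T, hT using Set.Finite.induction_on with
  | empty => exact ⟨univ, isOpen_univ.isLocallyClosed, trivial, by simp⟩
  | @insert a S _ _ ih =>
    obtain ⟨W, hW, hyW, h⟩ := ih fun t ht => hlc t (mem_insert_of_mem _ ht)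
    have key : ∃ P : Set X, IsLocallyClosed P ∧ y ∈ P ∧ (y ∈ a → P ⊆ a) ∧ (y ∉ a → Disjoint P a) := by
      by_cases hya : y ∈ a
      · exact ⟨a, hlc a (mem_insert _ _), hya, fun _ => subset_rfl, fun h => absurd hya h⟩
      · obtain ⟨U, F, hU, hF, rfl⟩ := hlc a (mem_insert _ _)
        by_cases hyU : y ∈ U
        · have hyF : y ∉ F := fun hh => hya ⟨hyU, hh⟩
          exact ⟨Fᶜ, hF.isOpen_compl.isLocallyClosed, hyF, fun h => absurd h hya,
            fun _ => disjoint_left.2 fun z hz hz' => hz hz'.2⟩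
        · exact ⟨Uᶜ, hU.isClosed_compl.isLocallyClosed, hyU, fun h => absurd h hya,
            fun _ => disjoint_left.2 fun z hz hz' => hz hz'.1⟩
    obtain ⟨P, hP, hyP, hP1, hP2⟩ := key
    refine ⟨P ∩ W, hP.inter hW, ⟨hyP, hyW⟩, ?_⟩
    rintro t (rfl | ht)
    · exact ⟨fun hh => inter_subset_left.trans (hP1 hh), fun hh => (hP2 hh).mono_left inter_subset_left⟩
    · exact ⟨fun hh => inter_subset_right.trans ((h t ht).1 hh),
        fun hh => ((h t ht).2 hh).mono_left inter_subset_right⟩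

lemma IsQC.exists_lc_piece {Z : Set X} (hZ : IsQC Z) (y : X) :
    ∃ W : Set X, IsLocallyClosed W ∧ y ∈ W ∧ (y ∈ Z → W ⊆ Z) ∧ (y ∉ Z → Disjoint W Z) := by
  obtain ⟨T, hT, hlc, rfl⟩ := hZ
  obtain ⟨W, hW, hyW, h⟩ := Groth.Agent.EGA43Top.exists_lc_piece hT hlc y
  refine ⟨W, hW, hyW, ?_, ?_⟩
  · rintro ⟨t, ht, hyt⟩; exact ((h t ht).1 hyt).trans (subset_sUnion_of_mem ht)
  · intro hy; rw [disjoint_sUnion_right]
    exact fun t ht => (h t ht).2 fun hh => hy ⟨t, ht, hh⟩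

lemma IsLQC.exists_lc_piece {Z : Set X} (hZ : IsLQC Z) (y : X) :
    ∃ W : Set X, IsLocallyClosed W ∧ y ∈ W ∧ (y ∈ Z → W ⊆ Z) ∧ (y ∉ Z → Disjoint W Z) := by
  obtain ⟨U, hU, hyU, hQ⟩ := hZ y
  obtain ⟨W, hW, hyW, h1, h2⟩ := hQ.exists_lc_piece y
  refine ⟨U ∩ W, hU.isLocallyClosed.inter hW, ⟨hyU, hyW⟩,
    fun hy => inter_subset_right.trans ((h1 ⟨hyU, hy⟩).trans inter_subset_right), fun hy => ?_⟩
  exact disjoint_left.2 fun z hz hzZ => disjoint_left.1 (h2 fun hh => hy hh.2) hz.2 ⟨hz.1, hzZ⟩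

/-- X₀ meets every nonempty locally closed set -/
def IsVeryDense (X₀ : Set X) : Prop :=
  ∀ Z : Set X, IsLocallyClosed Z → Z.Nonempty → (Z ∩ X₀).Nonempty

lemma veryDense_tfae (X₀ : Set X) :
    [IsVeryDense X₀,
      ∀ Z : Set X, IsClosed Z → closure (Z ∩ X₀) = Z,
      ∀ U V : Set X, IsOpen U → IsOpen V → U ∩ X₀ = V ∩ X₀ → U = V,
      ∀ F F' : Set X, IsClosed F → IsClosed F' → F ∩ X₀ = F' ∩ X₀ → F = F'].TFAE := by
  tfae_have 1 → 2 := by
    intro h Z hZ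
    refine subset_antisymm (closure_minimal inter_subset_left hZ) fun x hx => ?_
    by_contra hc
    obtain ⟨y, ⟨hy, hy'⟩, hy0⟩ := h (Z ∩ (closure (Z ∩ X₀))ᶜ)
      (hZ.isLocallyClosed.inter isClosed_closure.isOpen_compl.isLocallyClosed) ⟨x, hx, hc⟩
    exact hy' (subset_closure ⟨hy, hy0⟩)
  tfae_have 2 → 4 := by
    intro h F F' hF hF' e
    rw [← h F hF, ← h F' hF', e]
  tfae_have 4 → 3 := by
    intro h U V hU hV e
    refine compl_injective (h _ _ hU.isClosed_compl hV.isClosed_compl ?_)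
    have hU' : Uᶜ ∩ X₀ = X₀ \ (U ∩ X₀) := by ext z; simp; tauto
    have hV' : Vᶜ ∩ X₀ = X₀ \ (V ∩ X₀) := by ext z; simp; tauto
    rw [hU', hV', e]
  tfae_have 3 → 1 := by
    rintro h Z ⟨U, F, hU, hF, rfl⟩ ⟨x, hxU, hxF⟩
    by_contra hc
    rw [not_nonempty_iff_eq_empty] at hc
    have he : U ∩ X₀ = (U ∩ Fᶜ) ∩ X₀ := by
      ext z
      refine ⟨fun hz => ⟨⟨hz.1, fun hzF => ?_⟩, hz.2⟩, fun hz => ⟨hz.1.1, hz.2⟩⟩
      exact (eq_empty_iff_forall_notMem.1 hc z) ⟨⟨hz.1, hzF⟩, hz.2⟩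
    have := h U (U ∩ Fᶜ) hU (hU.inter hF.isOpen_compl) he
    exact (this ▸ hxU : x ∈ U ∩ Fᶜ).2 hxF
  tfae_finish

/-- inverse image is bijective on opens -/
structure IsQH (f : X → Y) : Prop where
  continuous : Continuous f
  inj : ∀ U₁ U₂ : Set Y, IsOpen U₁ → IsOpen U₂ → f ⁻¹' U₁ = f ⁻¹' U₂ → U₁ = U₂
  surj : ∀ V : Set X, IsOpen V → ∃ U : Set Y, IsOpen U ∧ f ⁻¹' U = V

lemma isQH_iff_bijective {f : X → Y} (hf : Continuous f) :
    IsQH f ↔ Function.Bijective (fun U : Opens Y =>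
      (⟨f ⁻¹' (U : Set Y), U.isOpen.preimage hf⟩ : Opens X)) := by
  constructor
  · intro h
    refine ⟨fun U V e => Opens.ext (h.inj _ _ U.2 V.2 (congrArg SetLike.coe e)), fun V => ?_⟩
    obtain ⟨U, hU, e⟩ := h.surj V V.2
    exact ⟨⟨U, hU⟩, Opens.ext e⟩
  · intro h
    refine ⟨hf, fun U V hU hV e => congrArg SetLike.coe (@h.1 ⟨U, hU⟩ ⟨V, hV⟩ (Opens.ext e)), fun V hV => ?_⟩
    obtain ⟨U, e⟩ := h.2 ⟨V, hV⟩
    exact ⟨U, U.2, congrArg SetLike.coe e⟩

namespace IsQH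

variable {f : X → Y}

lemma isInducing (h : IsQH f) : IsInducing f := by
  refine ⟨TopologicalSpace.ext_iff.2 fun V => ⟨fun hV => ?_, ?_⟩⟩
  · obtain ⟨U, hU, rfl⟩ := h.surj V hV
    exact ⟨U, hU, rfl⟩
  · rintro ⟨U, hU, rfl⟩; exact hU.preimage h.continuous

lemma isVeryDense_range (h : IsQH f) : IsVeryDense (range f) :=
  ((veryDense_tfae (range f)).out 0 2).2 fun U V hU hV e => h.inj U V hU hV (by
    ext x
    exact ⟨fun hx => ((e.subset ⟨hx, x, rfl⟩ : f x ∈ V ∩ range f)).1,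
      fun hx => ((e.superset ⟨hx, x, rfl⟩ : f x ∈ U ∩ range f)).1⟩)

lemma of_isInducing (hi : IsInducing f)
    (hd : ∀ U V : Set Y, IsOpen U → IsOpen V → U ∩ range f = V ∩ range f → U = V) : IsQH f := by
  refine ⟨hi.continuous, fun U V hU hV e => hd U V hU hV ?_, fun V hV => ?_⟩
  · rw [← image_preimage_eq_inter_range, e, image_preimage_eq_inter_range]
  · obtain ⟨U, hU, rfl⟩ := hi.isOpen_iff.1 hV
    exact ⟨U, hU, rfl⟩

lemma nonempty_preimage (h : IsQH f) {W : Set Y} (hW : IsLocallyClosed W) (hne : W.Nonempty) :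
    (f ⁻¹' W).Nonempty := by
  obtain ⟨_, hy, x, rfl⟩ := h.isVeryDense_range W hW hne
  exact ⟨x, hy⟩

lemma subset_of_preimage_subset (h : IsQH f) {Z Z' : Set Y} (hZ : IsLQC Z) (hZ' : IsLQC Z')
    (e : f ⁻¹' Z ⊆ f ⁻¹' Z') : Z ⊆ Z' := by
  intro y hy
  by_contra hy'
  obtain ⟨W, hW, hyW, h1, -⟩ := hZ.exists_lc_piece y
  obtain ⟨W', hW', hyW', -, h2⟩ := hZ'.exists_lc_piece y
  obtain ⟨x, hx, hx'⟩ := h.nonempty_preimage (hW.inter hW') ⟨y, hyW, hyW'⟩
  exact disjoint_left.1 (h2 hy') hx' (e (h1 hy hx : x ∈ f ⁻¹' Z))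

lemma eq_of_preimage_eq (h : IsQH f) {Z Z' : Set Y} (hZ : IsLQC Z) (hZ' : IsLQC Z')
    (e : f ⁻¹' Z = f ⁻¹' Z') : Z = Z' :=
  (h.subset_of_preimage_subset hZ hZ' e.subset).antisymm (h.subset_of_preimage_subset hZ' hZ e.superset)

lemma surj_closed (h : IsQH f) {F : Set X} (hF : IsClosed F) :
    ∃ G : Set Y, IsClosed G ∧ f ⁻¹' G = F := by
  obtain ⟨U, hU, e⟩ := h.surj Fᶜ hF.isOpen_compl
  exact ⟨Uᶜ, hU.isClosed_compl, by rw [preimage_compl, e, compl_compl]⟩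

lemma surj_lc (h : IsQH f) {W : Set X} (hW : IsLocallyClosed W) :
    ∃ W' : Set Y, IsLocallyClosed W' ∧ f ⁻¹' W' = W := by
  obtain ⟨U, F, hU, hF, rfl⟩ := hW
  obtain ⟨U', hU', rfl⟩ := h.surj U hU
  obtain ⟨G, hG, rfl⟩ := h.surj_closed hF
  exact ⟨U' ∩ G, ⟨U', G, hU', hG, rfl⟩, rfl⟩

lemma surj_qc (h : IsQH f) {Z : Set X} (hZ : IsQC Z) : ∃ Z' : Set Y, IsQC Z' ∧ f ⁻¹' Z' = Z := by
  obtain ⟨T, hT, hlc, rfl⟩ := hZ
  induction T, hT using Set.Finite.induction_on with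
  | empty => exact ⟨∅, ⟨∅, finite_empty, by simp, by simp⟩, by simp⟩
  | @insert a S _ _ ih =>
    obtain ⟨Z', hZ', e⟩ := ih fun t ht => hlc t (mem_insert_of_mem _ ht)
    obtain ⟨W, hW, rfl⟩ := h.surj_lc (hlc a (mem_insert _ _))
    exact ⟨W ∪ Z', (isQC_of_isLocallyClosed hW).union hZ', by rw [preimage_union, e, sUnion_insert]⟩

lemma surj_lqc (h : IsQH f) {Z : Set X} (hZ : IsLQC Z) : ∃ Z' : Set Y, IsLQC Z' ∧ f ⁻¹' Z' = Z := by
  choose V hV hxV hQ using hZ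
  choose U hU hUV using fun x => h.surj (V x) (hV x)
  choose Q hQ' hQV using fun x => h.surj_qc (hQ x)
  refine ⟨⋃ x, U x ∩ Q x, ?_, ?_⟩
  · intro y
    have hcov : (⋃ x, U x) = univ := by
      refine h.inj _ _ (isOpen_iUnion hU) isOpen_univ (eq_univ_of_forall fun x => ?_)
      exact mem_iUnion.2 ⟨x, (hUV x).superset (hxV x)⟩
    obtain ⟨a, ha⟩ := mem_iUnion.1 (hcov.superset (mem_univ y))
    refine ⟨U a, hU a, ha, ?_⟩
    have : U a ∩ (⋃ x, U x ∩ Q x) = U a ∩ Q a := by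
      refine subset_antisymm ?_ fun z hz => ⟨hz.1, mem_iUnion.2 ⟨a, hz⟩⟩
      rintro z ⟨hza, hz⟩
      obtain ⟨b, hzb, hzQ⟩ := mem_iUnion.1 hz
      have e : U a ∩ (U b ∩ Q b) = U b ∩ (U a ∩ Q a) := by
        refine h.eq_of_preimage_eq
          (((hQ' b).inter_lc (hU b).isLocallyClosed).inter_lc (hU a).isLocallyClosed).isLQC
          (((hQ' a).inter_lc (hU a).isLocallyClosed).inter_lc (hU b).isLocallyClosed).isLQC ?_
        simp only [preimage_inter, hUV, hQV]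
        ext w; simp; tauto
      exact ⟨hza, (e.subset ⟨hza, hzb, hzQ⟩).2.2⟩
    rw [this]
    exact (hQ' a).inter_lc (hU a).isLocallyClosed
  · ext x
    simp only [preimage_iUnion, preimage_inter, hUV, hQV, mem_iUnion, mem_inter_iff]
    exact ⟨fun ⟨_, _, _, hz⟩ => hz, fun hz => ⟨x, hxV x, hxV x, hz⟩⟩

lemma restrictPreimage (h : IsQH f) {Y' : Set Y} (hY' : IsLQC Y') :
    IsQH (Y'.restrictPreimage f) := by
  refine ⟨h.continuous.restrictPreimage, fun U₁ U₂ hU₁ hU₂ e => ?_, fun V hV => ?_⟩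
  · obtain ⟨W₁, hW₁, rfl⟩ := isOpen_induced_iff.1 hU₁
    obtain ⟨W₂, hW₂, rfl⟩ := isOpen_induced_iff.1 hU₂
    have he : f ⁻¹' (W₁ ∩ Y') = f ⁻¹' (W₂ ∩ Y') := by
      ext x
      exact ⟨fun hx => ⟨(Set.ext_iff.1 e ⟨x, hx.2⟩).1 hx.1, hx.2⟩,
        fun hx => ⟨(Set.ext_iff.1 e ⟨x, hx.2⟩).2 hx.1, hx.2⟩⟩
    rw [inter_comm W₁, inter_comm W₂] at he
    have := h.eq_of_preimage_eq (by rw [inter_comm]; exact hY'.inter_isOpen hW₁)
      (by rw [inter_comm]; exact hY'.inter_isOpen hW₂) he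
    exact (Subtype.preimage_coe_eq_preimage_coe_iff).2 this
  · obtain ⟨V', hV', rfl⟩ := isOpen_induced_iff.1 hV
    obtain ⟨U, hU, rfl⟩ := h.surj V' hV'
    exact ⟨Subtype.val ⁻¹' U, hU.preimage continuous_subtype_val, rfl⟩

/-- order isomorphism of lattices of opens -/
noncomputable def opensIso (h : IsQH f) : Opens Y ≃o Opens X where
  toEquiv := Equiv.ofBijective
    (fun U : Opens Y => (⟨f ⁻¹' (U : Set Y), U.isOpen.preimage h.continuous⟩ : Opens X))
    ((isQH_iff_bijective h.continuous).1 h)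
  map_rel_iff' := by
    intro U V
    refine ⟨fun hUV => ?_, fun hUV => preimage_mono (f := f) hUV⟩
    exact h.subset_of_preimage_subset (isQC_of_isLocallyClosed U.2.isLocallyClosed).isLQC
      (isQC_of_isLocallyClosed V.2.isLocallyClosed).isLQC hUV

lemma isCompact_univ_iff (h : IsQH f) : IsCompact (univ : Set Y) ↔ IsCompact (univ : Set X) := by
  rw [← Opens.coe_top (α := Y), ← Opens.coe_top (α := X), ← Opens.isCompactElement_iff,
    ← Opens.isCompactElement_iff, ← map_top h.opensIso]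
  simp only [CompleteLattice.isCompactElement_iff_exists_le_iSup_of_le_iSup]
  refine ⟨fun H ι s hs => ?_, fun H ι s hs => ?_⟩
  · have := H (ι := ι) (fun i => h.opensIso.symm (s i))
      (by rw [← OrderIso.map_iSup]; exact (h.opensIso.le_symm_apply).2 hs)
    obtain ⟨t, ht⟩ := this
    refine ⟨t, le_trans (h.opensIso.monotone ht) (le_of_eq ?_)⟩
    rw [map_finset_sup]; exact Finset.sup_congr rfl fun i _ => h.opensIso.apply_symm_apply _
  · obtain ⟨t, ht⟩ := H (ι := ι) (fun i => h.opensIso (s i)) (by rw [← OrderIso.map_iSup]; exact h.opensIso.monotone hs)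
    exact ⟨t, h.opensIso.le_iff_le.1 (ht.trans (le_of_eq (map_finset_sup h.opensIso t s).symm))⟩

lemma noetherianSpace_iff (h : IsQH f) : NoetherianSpace Y ↔ NoetherianSpace X :=
  ⟨fun _ => h.opensIso.symm.toOrderEmbedding.strictMono.wellFoundedGT,
    fun _ => h.opensIso.toOrderEmbedding.strictMono.wellFoundedGT⟩

lemma isCompact_iff (h : IsQH f) {Y' : Set Y} (hY' : IsLQC Y') :
    IsCompact Y' ↔ IsCompact (f ⁻¹' Y') := by
  rw [isCompact_iff_isCompact_univ, isCompact_iff_isCompact_univ (s := f ⁻¹' Y')]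
  exact (h.restrictPreimage hY').isCompact_univ_iff

lemma isCompact_open_iff (h : IsQH f) {U : Set Y} (hU : IsOpen U) :
    IsCompact U ↔ IsCompact (f ⁻¹' U) :=
  h.isCompact_iff (isQC_of_isLocallyClosed hU.isLocallyClosed).isLQC

lemma retrocompact_iff (h : IsQH f) {Y' : Set Y} (hY' : IsLQC Y') :
    (∀ U : Set Y, IsOpen U → IsCompact U → IsCompact (U ∩ Y')) ↔
      (∀ V : Set X, IsOpen V → IsCompact V → IsCompact (V ∩ f ⁻¹' Y')) := by
  refine ⟨fun H V hV hVc => ?_, fun H U hU hUc => ?_⟩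
  · obtain ⟨U, hU, rfl⟩ := h.surj V hV
    rw [← preimage_inter, ← h.isCompact_iff (hY'.inter_isOpen hU)]
    exact H U hU ((h.isCompact_open_iff hU).2 hVc)
  · rw [h.isCompact_iff (hY'.inter_isOpen hU), preimage_inter]
    exact H _ (hU.preimage h.continuous) ((h.isCompact_open_iff hU).1 hUc)

lemma isRetrocompact_iff (h : IsQH f) {U : Set Y} (hU : IsOpen U) :
    IsRetrocompact U ↔ IsRetrocompact (f ⁻¹' U) := by
  have := h.retrocompact_iff (isQC_of_isLocallyClosed hU.isLocallyClosed).isLQC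
  simp only [IsRetrocompact]
  refine ⟨fun H V hVc hV => ?_, fun H V hVc hV => ?_⟩
  · rw [inter_comm]; exact this.1 (fun W hW hWc => by rw [inter_comm]; exact H hWc hW) V hV hVc
  · rw [inter_comm]; exact this.2 (fun W hW hWc => by rw [inter_comm]; exact H hWc hW) V hV hVc

lemma preimage_isConstructible (h : IsQH f) {Z : Set Y} (hZ : IsConstructible Z) :
    IsConstructible (f ⁻¹' Z) :=
  hZ.preimage h.continuous fun _ hs hr => (h.isRetrocompact_iff hs).1 hr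

lemma surj_constructible (h : IsQH f) {Z : Set X} (hZ : IsConstructible Z) :
    ∃ Z' : Set Y, IsConstructible Z' ∧ f ⁻¹' Z' = Z := by
  induction hZ using IsConstructible.empty_union_induction with
  | open_retrocompact U hU hUc =>
    obtain ⟨W, hW, rfl⟩ := h.surj U hU
    exact ⟨W, ((h.isRetrocompact_iff hW).2 hUc).isConstructible hW, rfl⟩
  | union s _ t _ hs ht =>
    obtain ⟨a, ha, rfl⟩ := hs; obtain ⟨b, hb, rfl⟩ := ht
    exact ⟨a ∪ b, ha.union hb, rfl⟩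
  | compl s _ hs => obtain ⟨a, ha, rfl⟩ := hs; exact ⟨aᶜ, ha.compl, rfl⟩

end IsQH

lemma isQC_of_isConstructible {Z : Set X} (hZ : IsConstructible Z) : IsQC Z ∧ IsQC Zᶜ := by
  induction hZ using IsConstructible.empty_union_induction with
  | open_retrocompact U hU hUc =>
    exact ⟨isQC_of_isLocallyClosed hU.isLocallyClosed,
      isQC_of_isLocallyClosed hU.isClosed_compl.isLocallyClosed⟩
  | union s _ t _ hs ht =>
    refine ⟨hs.1.union ht.1, ?_⟩
    rw [compl_union]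
    obtain ⟨T, hT, hlc, e⟩ := hs.2
    rw [e, sUnion_eq_biUnion, iUnion₂_inter, ← sUnion_image]
    refine IsQC.sUnion (hT.image _) ?_
    rintro _ ⟨t', ht', rfl⟩
    exact ht.2.inter_lc (hlc t' ht')
  | compl s _ hs => exact ⟨hs.2, by rw [compl_compl]; exact hs.1⟩

lemma isLQC_of_isLocallyConstructible {Z : Set X} (hZ : IsLocallyConstructible Z) : IsLQC Z := by
  intro x
  obtain ⟨U, hxU, hU, hc⟩ := hZ x
  refine ⟨U, hU, mem_of_mem_nhds hxU, ?_⟩
  have := (isQC_of_isConstructible hc).1.image_isLocallyClosed_embedding IsInducing.subtypeVal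
    (by rw [Subtype.range_coe]; exact hU.isLocallyClosed)
  rwa [Subtype.image_preimage_coe] at this

namespace IsQH

variable {f : X → Y}

lemma preimage_isLocallyConstructible (h : IsQH f) {Z : Set Y} (hZ : IsLocallyConstructible Z) :
    IsLocallyConstructible (f ⁻¹' Z) := by
  intro x
  obtain ⟨U, hxU, hU, hc⟩ := hZ (f x)
  exact ⟨f ⁻¹' U, h.continuous.continuousAt.preimage_mem_nhds hxU, hU.preimage h.continuous,
    ((h.restrictPreimage (isQC_of_isLocallyClosed hU.isLocallyClosed).isLQC).preimage_isConstructible hc :)⟩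

lemma surj_locallyConstructible (h : IsQH f) {Z : Set X} (hZ : IsLocallyConstructible Z) :
    ∃ Z' : Set Y, IsLocallyConstructible Z' ∧ f ⁻¹' Z' = Z := by
  obtain ⟨Z', hZ', rfl⟩ := h.surj_lqc (isLQC_of_isLocallyConstructible hZ)
  refine ⟨Z', fun y => ?_, rfl⟩
  choose V hxV hV hc using hZ
  choose U hU hUV using fun x => h.surj (V x) (hV x)
  have hcov : (⋃ x, U x) = univ := by
    refine h.inj _ _ (isOpen_iUnion hU) isOpen_univ (eq_univ_of_forall fun x => ?_)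
    exact mem_iUnion.2 ⟨x, (hUV x).superset (mem_of_mem_nhds (hxV x))⟩
  obtain ⟨a, ha⟩ := mem_iUnion.1 (hcov.superset (mem_univ y))
  refine ⟨U a, (hU a).mem_nhds ha, hU a, ?_⟩
  have hr := h.restrictPreimage (isQC_of_isLocallyClosed (hU a).isLocallyClosed).isLQC
  have hc' : IsConstructible ((Subtype.val : ↥(f ⁻¹' U a) → X) ⁻¹' (f ⁻¹' Z')) := by
    rw [hUV a]; exact hc a
  obtain ⟨C, hC, eC⟩ := hr.surj_constructible hc'
  have : (Subtype.val : ↥(U a) → Y) ⁻¹' Z' = C := by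
    refine hr.eq_of_preimage_eq ?_ (isQC_of_isConstructible hC).1.isLQC ?_
    · intro z
      obtain ⟨W, hW, hzW, hQ⟩ := hZ' z.1
      exact ⟨_, hW.preimage continuous_subtype_val, hzW, hQ.preimage continuous_subtype_val⟩
    · rw [eC]; rfl
  rw [this]; exact hC

end IsQH

end Groth.Agent.EGA43Top
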