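import Groth.Prelude.Def_EGA43
import Mathlib.AlgebraicGeometry.PullbackCarrier
import Mathlib.AlgebraicGeometry.Morphisms.ClosedImmersion

universe u

open CategoryTheory CategoryTheory.Limits AlgebraicGeometry Topology

namespace Groth.Agent.EGA43Top

variable {X Y Z Y' X' : Scheme.{u}}

lemma isOpenAt_comp_homeo {α β γ : Type*} [TopologicalSpace α] [TopologicalSpace β] [TopologicalSpace γ]
    (e : α ≃ₜ β) (ψ : β → γ) (a : α) : EGA43.IsOpenAt (ψ ∘ e) a ↔ EGA43.IsOpenAt ψ (e a) := by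
  constructor
  · intro h U hU
    refine Filter.mem_of_superset (h (e ⁻¹' U) (e.continuous.continuousAt.preimage_mem_nhds hU)) ?_
    rintro _ ⟨b, hb, rfl⟩; exact ⟨e b, hb, rfl⟩
  · intro h U hU
    rw [Set.image_comp]
    exact h _ (e.isOpenMap.image_mem_nhds hU)

lemma isUnivOpenAt_iff {f : X ⟶ Y} {x : X} :
    EGA43.IsUnivOpenAt f x ↔ ∀ (X' Y' : Scheme.{u}) (a : X' ⟶ X) (b : X' ⟶ Y') (g : Y' ⟶ Y),
      IsPullback a b f g → ∀ x' : X', a x' = x → EGA43.IsOpenAt b x' := by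
  constructor
  · intro h X' Y' a b g sq x' hx'
    have := h Y' g (sq.isoPullback.hom x') (by rw [← Scheme.Hom.comp_apply, sq.isoPullback_hom_fst]; exact hx')
    have e : (b : X' → Y') = (pullback.snd f g : ↥(pullback f g) → Y') ∘ sq.isoPullback.hom.homeomorph := by
      funext z
      conv_lhs => rw [← sq.isoPullback_hom_snd]
      rfl
    rw [e, isOpenAt_comp_homeo]
    exact this
  · intro h Y' g x' hx'
    exact h _ _ _ _ _ (IsPullback.of_hasPullback f g) x' hx'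

lemma isUnivOpenAt_comp {f : X ⟶ Y} {g : Y ⟶ Z} {x : X} (hf : EGA43.IsUnivOpenAt f x)
    (hg : EGA43.IsUnivOpenAt g (f x)) : EGA43.IsUnivOpenAt (f ≫ g) x := by
  rw [isUnivOpenAt_iff] at hf hg ⊢
  intro X' Z' a b h sq x' hx'
  let w : X' ⟶ pullback g h := pullback.lift (a ≫ f) b (by rw [Category.assoc]; exact sq.w)
  have sq1 : IsPullback a w f (pullback.fst g h) := by
    refine IsPullback.of_bot ?_ (pullback.lift_fst _ _ _).symm (IsPullback.of_hasPullback g h)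
    rwa [pullback.lift_snd]
  have hw : b = w ≫ pullback.snd g h := (pullback.lift_snd _ _ _).symm
  have h1 := hf _ _ _ _ _ sq1 x' hx'
  have h2 := hg _ _ _ _ _ (IsPullback.of_hasPullback g h) (w x') (by
    rw [← Scheme.Hom.comp_apply, pullback.lift_fst, Scheme.Hom.comp_apply, hx'])
  intro U hU
  rw [hw]
  refine Filter.mem_of_superset (h2 _ (h1 U hU)) ?_
  rintro _ ⟨_, ⟨z, hz, rfl⟩, rfl⟩
  exact ⟨z, hz, rfl⟩

lemma isUnivOpenAt_of_comp {f : X ⟶ Y} {g : Y ⟶ Z} {x : X} (h : EGA43.IsUnivOpenAt (f ≫ g) x) :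
    EGA43.IsUnivOpenAt g (f x) := by
  rw [isUnivOpenAt_iff] at h ⊢
  intro Y' Z' a b c sq y' hy'
  obtain ⟨x', hx', hy''⟩ := Scheme.Pullback.exists_preimage_pullback (f := f) (g := a) x y' hy'.symm
  have sq' : IsPullback (pullback.fst f a) (pullback.snd f a ≫ b) (f ≫ g) c :=
    (IsPullback.of_hasPullback f a).paste_vert sq
  have h1 := h _ _ _ _ _ sq' x' hx'
  intro U hU
  rw [← hy''] at hU ⊢
  refine Filter.mem_of_superset (h1 _ ((pullback.snd f a).continuous.continuousAt.preimage_mem_nhds hU)) ?_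
  rintro _ ⟨z, hz, rfl⟩
  exact ⟨_, hz, rfl⟩

lemma isUnivOpenAt_baseChange {f : X ⟶ Y} {g : Y' ⟶ Y} {a : X' ⟶ X} {b : X' ⟶ Y'}
    (sq : IsPullback a b f g) {x' : X'} (h : EGA43.IsUnivOpenAt f (a x')) :
    EGA43.IsUnivOpenAt b x' := by
  rw [isUnivOpenAt_iff] at h ⊢
  intro X'' Y'' a' b' g' sq' x'' hx''
  exact h _ _ _ _ _ (sq'.paste_horiz sq) x'' (by rw [Scheme.Hom.comp_apply, hx''])

end Groth.Agent.EGA43Top
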